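import Groth.Agent.HomShQC.Stalk
import Mathlib.AlgebraicGeometry.FunctionField
import Mathlib.AlgebraicGeometry.Noetherian

/-!
# Specialization to the generic point for modules on integral schemes
-/

universe u

open CategoryTheory Limits AlgebraicGeometry Opposite TopologicalSpace

noncomputable section

namespace Groth.Agent.Ref1

open Groth.Agent.PullStalk.Sky Groth.Agent.HomShQC Groth.Agent.Props.QStalk Groth.Agent.QCoh

variable {X : Scheme.{u}}

/-- Specialization on stalks of modules. -/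
def sp (F : X.Modules) {y x : X} (h : y ⤳ x) : F.presheaf.stalk x →+ F.presheaf.stalk y :=
  (F.presheaf.stalkSpecializes h).hom

/-- Specialization on local rings. -/
def spR {y x : X} (h : y ⤳ x) : X.presheaf.stalk x →+* X.presheaf.stalk y :=
  (X.presheaf.stalkSpecializes h).hom

lemma sp_germ (F : X.Modules) {y x : X} (h : y ⤳ x) {U : X.Opens} (hx : x ∈ U) (m : Γ(F, U)) :
    sp F h (germM F U x hx m) = germM F U y (h.mem_open U.2 hx) m :=
  TopCat.Presheaf.germ_stalkSpecializes_apply F.presheaf hx h m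

lemma spR_germ {y x : X} (h : y ⤳ x) {U : X.Opens} (hx : x ∈ U) (r : Γ(X, U)) :
    spR h (X.presheaf.germ U x hx r) = X.presheaf.germ U y (h.mem_open U.2 hx) r :=
  TopCat.Presheaf.germ_stalkSpecializes_apply X.presheaf hx h r

lemma sp_smul (F : X.Modules) {y x : X} (h : y ⤳ x) (a : X.presheaf.stalk x)
    (v : F.presheaf.stalk x) : sp F h (a • v) = spR h a • sp F h v := by
  obtain ⟨U, hU, r, rfl⟩ := X.presheaf.exists_germ_eq (x := x) a
  obtain ⟨V, hV, m, rfl⟩ := exists_germM_eq F x v
  have hW : x ∈ U ⊓ V := ⟨hU, hV⟩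
  rw [← germ_rres (inf_le_left : U ⊓ V ≤ U) x hW, ← germM_res F (inf_le_right : U ⊓ V ≤ V) x hW,
    ← germM_smul, sp_germ, germM_smul, spR_germ, sp_germ]

lemma sp_sp (F : X.Modules) {z y x : X} (h : z ⤳ y) (h' : y ⤳ x) (v : F.presheaf.stalk x) :
    sp F h (sp F h' v) = sp F (h.trans h') v := by
  obtain ⟨V, hV, m, rfl⟩ := exists_germM_eq F x v
  rw [sp_germ, sp_germ, sp_germ]

lemma spR_spR {z y x : X} (h : z ⤳ y) (h' : y ⤳ x) (v : X.presheaf.stalk x) :
    spR h (spR h' v) = spR (h.trans h') v := by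
  obtain ⟨V, hV, m, rfl⟩ := X.presheaf.exists_germ_eq (x := x) v
  rw [spR_germ, spR_germ, spR_germ]

lemma sp_stalkMap {F G : X.Modules} (φ : F ⟶ G) {y x : X} (h : y ⤳ x) (v : F.presheaf.stalk x) :
    sp G h (RefHull.stalkMapₗ φ x v) = RefHull.stalkMapₗ φ y (sp F h v) := by
  obtain ⟨V, hV, m, rfl⟩ := exists_germM_eq F x v
  rw [RefHull.stalkMapₗ_germ, sp_germ, sp_germ, RefHull.stalkMapₗ_germ]

lemma sp_unitStalk {y x : X} (h : y ⤳ x) (r : X.presheaf.stalk x) :
    sp (Coh.structureModule X) h (unitStalk x r) = unitStalk y (spR h r) := by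
  obtain ⟨V, hV, m, rfl⟩ := X.presheaf.exists_germ_eq (x := x) r
  rw [unitStalk_germ, spR_germ, unitStalk_germ]
  exact sp_germ (Coh.structureModule X) h hV m

/-- Values of a local section of the sheaf Hom commute with specialization. -/
lemma sp_value {F G : X.Modules} {W : X.Opens} (g : Γ(RefHull.homSh F G, W)) {y x : X} (h : y ⤳ x)
    (hx : x ∈ W) (v : F.presheaf.stalk x) :
    sp G h (g.1 ⟨x, hx⟩ v) = g.1 ⟨y, h.mem_open W.2 hx⟩ (sp F h v) := by
  obtain ⟨V, hV, m, rfl⟩ := exists_germM_eq F x v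
  have hW : x ∈ W ⊓ V := ⟨hx, hV⟩
  obtain ⟨W', hxW', j, n, hn⟩ := RefHull.isLocSect_of_mem g (W ⊓ V) (homOfLE inf_le_left)
    (res F inf_le_right m) ⟨x, hW⟩
  have e1 := hn ⟨x, hxW'⟩
  have e2 := hn ⟨y, h.mem_open W'.2 hxW'⟩
  rw [show F.presheaf.germ (W ⊓ V) x (j.le hxW') (res F inf_le_right m) = germM F V x hV m from
    germM_res F inf_le_right x _ m] at e1
  rw [show F.presheaf.germ (W ⊓ V) y _ (res F inf_le_right m) = germM F V y (h.mem_open V.2 hV) m from
    germM_res F inf_le_right y _ m] at e2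
  rw [show g.1 ⟨x, hx⟩ (germM F V x hV m) = germM G W' x hxW' n from e1, sp_germ, sp_germ]
  exact e2.symm

variable [IsIntegral X]

/-- The generic point specializes to every point. -/
lemma hsp (x : X) : genericPoint X ⤳ x := (genericPoint_spec X).specializes (Set.mem_univ x)

/-- The map to the generic stalk. -/
abbrev toη (F : X.Modules) (x : X) : F.presheaf.stalk x →+ F.presheaf.stalk (genericPoint X) :=
  sp F (hsp x)

/-- The map to the function field. -/
abbrev toK (x : X) : X.presheaf.stalk x →+* X.presheaf.stalk (genericPoint X) := spR (hsp x)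

lemma toK_eq_algebraMap (x : X) (a : X.presheaf.stalk x) :
    toK x a = algebraMap (X.presheaf.stalk x) X.functionField a := rfl

lemma toK_injective (x : X) : Function.Injective (toK x) :=
  IsFractionRing.injective (X.presheaf.stalk x) X.functionField

lemma toK_ne_zero {x : X} {a : X.presheaf.stalk x} (ha : a ≠ 0) : toK x a ≠ 0 :=
  fun h => ha (toK_injective x (h.trans (map_zero _).symm))

lemma isUnit_of_ne_zero {a : X.presheaf.stalk (genericPoint X)} (ha : a ≠ 0) : IsUnit a :=
  isUnit_iff_ne_zero.mpr (show (a : X.functionField) ≠ 0 from ha)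

lemma germ_ne_zero {U : X.Opens} {x : X} (hx : x ∈ U) {r : Γ(X, U)} (hr : r ≠ 0) :
    X.presheaf.germ U x hx r ≠ 0 :=
  fun h => hr (germ_injective_of_isIntegral X x hx (h.trans (map_zero _).symm))

lemma primeIdealOf_η {U : X.Opens} (hU : IsAffineOpen U) (hη : genericPoint X ∈ U) :
    (hU.primeIdealOf ⟨genericPoint X, hη⟩).asIdeal = ⊥ := by
  haveI : Nonempty U := ⟨⟨_, hη⟩⟩
  rw [hU.primeIdealOf_genericPoint, genericPoint_eq_bot_of_affine]
  rfl

/-- On an integral scheme every element of the generic stalk is a fraction at every point. -/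
lemma exists_smul_eq_toη (F : X.Modules) [F.IsQuasicoherent] (x : X)
    (w : F.presheaf.stalk (genericPoint X)) :
    ∃ (a : X.presheaf.stalk x) (v : F.presheaf.stalk x), a ≠ 0 ∧ toη F x v = toK x a • w := by
  obtain ⟨_, ⟨U, hU, rfl⟩, hxU, -⟩ :=
    X.isBasis_affineOpens.exists_subset_of_mem_open (Set.mem_univ x) isOpen_univ
  replace hU : IsAffineOpen U := hU
  have hη : genericPoint X ∈ U := (hsp x).mem_open U.2 hxU
  letI := moduleSections F hη
  haveI := isLocalizedModule_germLin F hη hU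
  obtain ⟨⟨m, c⟩, hmc⟩ := IsLocalizedModule.surj
    (hU.primeIdealOf ⟨_, hη⟩).asIdeal.primeCompl (germLin F hη) w
  have hc0 : c.1 ≠ 0 := fun h => c.2 (h ▸ Submodule.zero_mem _)
  refine ⟨X.presheaf.germ U x hxU c.1, germM F U x hxU m, germ_ne_zero hxU hc0, ?_⟩
  rw [toη, toK, sp_germ, spR_germ]
  exact hmc.symm

/-- A torsion-free stalk injects into the generic stalk. -/
lemma toη_injective (F : X.Modules) [F.IsQuasicoherent] (x : X)
    (hx : Module.IsTorsionFree (X.presheaf.stalk x) (F.presheaf.stalk x)) :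
    Function.Injective (toη F x) := by
  rw [injective_iff_map_eq_zero]
  intro t ht
  obtain ⟨_, ⟨U, hU, rfl⟩, hxU, -⟩ :=
    X.isBasis_affineOpens.exists_subset_of_mem_open (Set.mem_univ x) isOpen_univ
  replace hU : IsAffineOpen U := hU
  have hη : genericPoint X ∈ U := (hsp x).mem_open U.2 hxU
  letI := moduleSections F hη
  letI := moduleSections F hxU
  haveI := isLocalizedModule_germLin F hη hU
  haveI := isLocalizedModule_germLin F hxU hU
  obtain ⟨⟨m, c⟩, hmc⟩ := IsLocalizedModule.surj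
    (hU.primeIdealOf ⟨x, hxU⟩).asIdeal.primeCompl (germLin F hxU) t
  have hc0 : c.1 ≠ 0 := fun h => c.2 (h ▸ Submodule.zero_mem _)
  have hmc' : X.presheaf.germ U x hxU c.1 • t = germM F U x hxU m := hmc
  have h1 : germLin F hη m = germLin F hη 0 := by
    rw [map_zero]
    show germM F U _ hη m = 0
    rw [← sp_germ F (hsp x) hxU m, ← hmc', sp_smul, ht, smul_zero]
  obtain ⟨d, hd⟩ := (IsLocalizedModule.eq_iff_exists
    (hU.primeIdealOf ⟨_, hη⟩).asIdeal.primeCompl (germLin F hη)).mp h1
  have hd0 : d.1 ≠ 0 := fun h => d.2 (h ▸ Submodule.zero_mem _)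
  rw [smul_zero, Submonoid.smul_def] at hd
  have h2 : X.presheaf.germ U x hxU d.1 • germM F U x hxU m = 0 := by
    rw [← germM_smul, hd]
    exact map_zero _
  rw [← hmc', smul_smul] at h2
  exact (smul_eq_zero.mp h2).resolve_left
    (mul_ne_zero (germ_ne_zero hxU hd0) (germ_ne_zero hxU hc0))

/-- Morphisms into a module whose stalks inject into the generic stalk are determined there. -/
lemma hom_ext_η {F G : X.Modules} (hG : ∀ x, Function.Injective (toη G x)) {φ ψ : F ⟶ G}
    (h : RefHull.stalkMapₗ φ (genericPoint X) = RefHull.stalkMapₗ ψ (genericPoint X)) : φ = ψ :=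
  Omega.Stalks.hom_ext_stalk fun x => LinearMap.ext fun v => hG x <| by
    refine (sp_stalkMap φ (hsp x) v).trans ?_
    rw [h]
    exact (sp_stalkMap ψ (hsp x) v).symm

end Groth.Agent.Ref1

end
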