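import Groth.Agent.Ref1.Sp
import Groth.Agent.CycLib.DivRestrict
import Groth.Prelude.Def_C1
import Mathlib.AlgebraicGeometry.OrderOfVanishing
import Mathlib.RingTheory.DiscreteValuationRing.Basic

/-!
# Orders of rational sections in codimension one
-/

universe u

open CategoryTheory Limits AlgebraicGeometry Opposite TopologicalSpace

noncomputable section

namespace Groth.Agent.Ref1

open Groth.Agent.PullStalk.Sky

variable {X : Scheme.{u}} [IsIntegral X] [IsLocallyNoetherian X]

lemma coheight_eq_one {y : X} (hy : ringKrullDim (X.presheaf.stalk y) = 1) : Order.coheight y = 1 := by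
  rw [ringKrullDim_stalk_eq_coheight] at hy
  exact_mod_cast hy

lemma ringKrullDim_eq_one {y : X} (hy : Order.coheight y = 1) :
    ringKrullDim (X.presheaf.stalk y) = 1 := by
  rw [ringKrullDim_stalk_eq_coheight, hy]
  rfl

omit [IsLocallyNoetherian X] in
lemma maximalIdeal_η :
    IsLocalRing.maximalIdeal (X.presheaf.stalk (genericPoint X)) = ⊥ := by
  letI : Field (X.presheaf.stalk (genericPoint X)) := inferInstanceAs (Field X.functionField)
  exact IsLocalRing.isField_iff_maximalIdeal_eq.mp (Field.toIsField _)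

omit [IsLocallyNoetherian X] in
lemma mk_η_injective (F : X.Modules) :
    Function.Injective (Submodule.Quotient.mk : F.presheaf.stalk (genericPoint X) →
      Cyc.secFibre F (genericPoint X)) := by
  intro a b h
  rw [Submodule.Quotient.eq, maximalIdeal_η, Submodule.bot_smul, Submodule.mem_bot, sub_eq_zero] at h
  exact h

omit [IsLocallyNoetherian X] in
lemma residue_η_bijective : Function.Bijective (X.residue (genericPoint X)) := by
  refine ⟨?_, Ideal.Quotient.mk_surjective⟩
  rw [injective_iff_map_eq_zero]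
  intro a ha
  have : a ∈ IsLocalRing.maximalIdeal (X.presheaf.stalk (genericPoint X)) :=
    Ideal.Quotient.eq_zero_iff_mem.mp ha
  rwa [maximalIdeal_η, Submodule.mem_bot] at this

/-- The order of a rational function, through the specialization from the generic point. -/
lemma ordAt_residue {y : X} (hy : Order.coheight y = 1) (φ : X.presheaf.stalk (genericPoint X))
    (hφ : φ ≠ 0) :
    Cyc.ordAt y (genericPoint X) (hsp y) (X.residue (genericPoint X) φ) = Scheme.ord φ y := by
  haveI : Ring.KrullDimLE 1 (X.presheaf.stalk y) := krullDimLE_of_coheight_le hy.le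
  haveI := CycLib.locQuot_isDomain y (genericPoint X) (hsp y)
  haveI := CycLib.locQuot_isFractionRing y (genericPoint X) (hsp y)
  haveI := CycLib.locQuot_isNoetherianRing y (genericPoint X) (hsp y)
  have hker : RingHom.ker (Cyc.specMap y (genericPoint X) (hsp y)) = ⊥ := by
    rw [← RingHom.injective_iff_ker_eq_bot]
    exact residue_η_bijective.1.comp (toK_injective y)
  let e : X.presheaf.stalk y ≃+* Cyc.LocQuot y (genericPoint X) (hsp y) :=
    RingEquiv.ofBijective (Ideal.Quotient.mk _)
      ⟨by rw [RingHom.injective_iff_ker_eq_bot, Ideal.mk_ker, hker], Ideal.Quotient.mk_surjective⟩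
  haveI : Ring.KrullDimLE 1 (Cyc.LocQuot y (genericPoint X) (hsp y)) := by
    rw [Ring.krullDimLE_iff, ← ringKrullDim_eq_of_ringEquiv e]
    exact Ring.krullDimLE_iff.mp inferInstance
  let ψ : X.functionField ≃+* X.residueField (genericPoint X) :=
    RingEquiv.ofBijective (X.residue (genericPoint X)).hom residue_η_bijective
  have h : CycAlg.ordFrac (X.presheaf.stalk y) X.functionField φ = Scheme.ord φ y := by
    rw [Scheme.ord_eq_ordHom_of_coheight_eq_one hy]
    unfold CycAlg.ordFrac
    rw [dif_pos ⟨inferInstance, inferInstance, inferInstance, inferInstance⟩]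
    show _ = Multiplicative.toAdd ((Ring.ordFrac (X.presheaf.stalk y) (φ : X.functionField)).unzeroD 1)
    cases Ring.ordFrac (X.presheaf.stalk y) (φ : X.functionField) <;> rfl
  rw [← h]
  exact (CycLib.ordFrac_congr e ψ (fun r => rfl) (show (φ : X.functionField) ≠ 0 from hφ)).symm

lemma ord_toK {y : X} (hy : Order.coheight y = 1) {c : X.presheaf.stalk y} (hc : c ≠ 0) :
    Scheme.ord (toK y c) y = (Ring.ord (X.presheaf.stalk y) c).toNat := by
  haveI : Ring.KrullDimLE 1 (X.presheaf.stalk y) := krullDimLE_of_coheight_le hy.le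
  rw [Scheme.ord_eq_iff hy (toK_ne_zero hc)]
  show Ring.ordFrac (X.presheaf.stalk y) (algebraMap (X.presheaf.stalk y) X.functionField c) = _
  rw [Ring.ordFrac_eq_ord _ hc, Ring.ordMonoidWithZeroHom_eq_coe _
    (mem_nonZeroDivisors_iff_ne_zero.mpr hc)
    (ENat.natCast_toNat (Ring.ord_ne_top (mem_nonZeroDivisors_iff_ne_zero.mpr hc))).symm]

lemma ord_toK_of_isUnit {y : X} (hy : Order.coheight y = 1) {c : X.presheaf.stalk y} (hc : IsUnit c) :
    Scheme.ord (toK y c) y = 0 := by
  rw [ord_toK hy hc.ne_zero, Ring.ord_of_isUnit hc]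
  rfl

lemma ord_inv' {y : X} {φ : X.functionField} (hφ : φ ≠ 0) :
    Scheme.ord φ⁻¹ y = - Scheme.ord φ y := by
  have h := Scheme.ord_mul (x := y) hφ (inv_ne_zero hφ)
  rw [mul_inv_cancel₀ hφ] at h
  have h1 : Scheme.ord (1 : X.functionField) y = 0 := by
    have := Scheme.ord_mul (x := y) (one_ne_zero (α := X.functionField)) one_ne_zero
    rw [one_mul] at this
    omega
  omega

/-- In a DVR stalk, order zero means unit. -/
lemma exists_unit_of_ord_eq_zero {y : X} (hy : Order.coheight y = 1)
    [IsDiscreteValuationRing (X.presheaf.stalk y)]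
    {φ : X.functionField} (hφ : φ ≠ 0) (h : Scheme.ord φ y = 0) :
    ∃ c : X.presheaf.stalk y, IsUnit c ∧ toK y c = φ := by
  have key : ∀ c : X.presheaf.stalk y, c ≠ 0 → Scheme.ord (toK y c) y = 0 → IsUnit c := by
    intro c hc h0
    haveI : Ring.KrullDimLE 1 (X.presheaf.stalk y) := krullDimLE_of_coheight_le hy.le
    rw [ord_toK hy hc] at h0
    have h1 : Ring.ord (X.presheaf.stalk y) c = 0 := by
      rcases ENat.toNat_eq_zero.mp (by exact_mod_cast h0) with h' | h'
      · exact h'
      · exact absurd h' (Ring.ord_ne_top (mem_nonZeroDivisors_iff_ne_zero.mpr hc))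
    rw [Ring.ord, Module.length_eq_zero_iff, Submodule.Quotient.subsingleton_iff,
      Ideal.span_singleton_eq_top] at h1
    exact h1
  rcases ValuationRing.isInteger_or_isInteger (X.presheaf.stalk y) φ with ⟨c, hc⟩ | ⟨c, hc⟩
  · have hc0 : c ≠ 0 := by rintro rfl; exact hφ (by rw [← hc, map_zero])
    exact ⟨c, key c hc0 (by rw [toK_eq_algebraMap, hc]; exact h), hc⟩
  · have hc0 : c ≠ 0 := by rintro rfl; exact inv_ne_zero hφ (by rw [← hc, map_zero])
    have hu := key c hc0 (by rw [toK_eq_algebraMap, hc, ord_inv' hφ, h, neg_zero])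
    refine ⟨↑hu.unit⁻¹, (hu.unit⁻¹).isUnit, ?_⟩
    rw [toK_eq_algebraMap, map_units_inv, IsUnit.unit_spec, hc, inv_inv]

/-- Order of a rational section: only depends on a generator of the stalk. -/
theorem secOrdAt_eq {F : X.Modules} {y : X} (hy : Order.coheight y = 1)
    {t : F.presheaf.stalk y} (ht : Submodule.span (X.presheaf.stalk y) {t} = ⊤) (ht0 : toη F y t ≠ 0)
    (hfree : ∀ (a : X.presheaf.stalk (genericPoint X)) (w : F.presheaf.stalk (genericPoint X)),
      a • w = 0 → a = 0 ∨ w = 0)
    {φ : X.presheaf.stalk (genericPoint X)} (hφ : φ ≠ 0) {s : F.presheaf.stalk (genericPoint X)}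
    (hs : s = φ • toη F y t) :
    Cyc.secOrdAt F (genericPoint X) y (hsp y) (Submodule.Quotient.mk s) = Scheme.ord φ y := by
  classical
  have hcancel : ∀ a b : X.presheaf.stalk (genericPoint X), a • toη F y t = b • toη F y t → a = b :=
    fun a b hab => sub_eq_zero.mp ((hfree _ _ (by rw [sub_smul, hab, sub_self])).resolve_right ht0)
  have hex : ∃ t' : F.presheaf.stalk y, Submodule.span (X.presheaf.stalk y) {t'} = ⊤ := ⟨t, ht⟩
  unfold Cyc.secOrdAt
  rw [dif_pos hex]
  obtain ⟨t', htc⟩ : ∃ t', t' = Classical.choose hex := ⟨_, rfl⟩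
  have ht' : Submodule.span (X.presheaf.stalk y) {t'} = ⊤ := htc ▸ Classical.choose_spec hex
  obtain ⟨u, hu⟩ := Submodule.mem_span_singleton.mp (ht.ge (Submodule.mem_top (x := t')))
  obtain ⟨v, hv⟩ := Submodule.mem_span_singleton.mp (ht'.ge (Submodule.mem_top (x := t)))
  have huv : IsUnit u := by
    refine IsUnit.of_mul_eq_one v (toK_injective y ?_)
    refine hcancel _ _ ?_
    rw [map_one, one_smul, ← sp_smul, mul_comm, mul_smul, hu, hv]
  have htη : toη F y t' = toK y u • toη F y t := by rw [← hu, toη, sp_smul]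
  have hu0 : toK y u ≠ 0 := toK_ne_zero huv.ne_zero
  have hmem : ∀ c : X.presheaf.stalk (genericPoint X),
      (Submodule.Quotient.mk s : Cyc.secFibre F (genericPoint X)) =
        c • (Submodule.Quotient.mk (toη F y t') : Cyc.secFibre F (genericPoint X)) →
      φ = c * toK y u := by
    intro c hc
    rw [← Submodule.Quotient.mk_smul] at hc
    have := mk_η_injective F hc
    rw [hs, htη, smul_smul] at this
    exact hcancel _ _ this
  have hφ' : ∃ c : X.presheaf.stalk (genericPoint X),
      (Submodule.Quotient.mk s : Cyc.secFibre F (genericPoint X)) =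
        c • (Submodule.Quotient.mk (toη F y (Classical.choose hex)) : Cyc.secFibre F (genericPoint X)) := by
    refine ⟨φ * toK y ↑huv.unit⁻¹, ?_⟩
    rw [← htc, htη, ← Submodule.Quotient.mk_smul, smul_smul, mul_assoc, ← map_mul, IsUnit.val_inv_mul,
      map_one, mul_one, hs]
  refine Eq.trans (dif_pos hφ') ?_
  obtain ⟨c, hcc⟩ : ∃ c, c = Classical.choose hφ' := ⟨_, rfl⟩
  have hc := hcc ▸ Classical.choose_spec hφ'
  rw [← htc] at hc
  have e := hmem c hc
  have hc0 : c ≠ 0 := by rintro rfl; exact hφ (by rw [e, zero_mul])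
  change Cyc.ordAt y (genericPoint X) (hsp y) (X.residue (genericPoint X) (Classical.choose hφ')) = _
  rw [← hcc, ordAt_residue hy c hc0, e]
  refine (Eq.trans (Scheme.ord_mul (x := y) (show (c : X.functionField) ≠ 0 from hc0)
    (show (toK y u : X.functionField) ≠ 0 from hu0)) ?_).symm
  rw [ord_toK_of_isUnit hy huv, add_zero]

end Groth.Agent.Ref1

end
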