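import Groth.Agent.Ref1.Rank
import Groth.Agent.Ref1.Ord
import Groth.Agent.VarDim.Curve
import Groth.Agent.LimTop.TensorQC

/-!
# Divisors of rational sections of rank one reflexive modules
-/

universe u

open CategoryTheory Limits AlgebraicGeometry Opposite TopologicalSpace
open scoped TensorProduct

noncomputable section

namespace Groth.Agent.Ref1

open Groth.Agent.PullStalk.Sky Groth.Agent.HomShQC Groth.Agent.KFlat.StalkTensor

variable {X : Scheme.{u}} [IsIntegral X]

/-- The order of an element of the generic stalk at a point. -/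
abbrev ordS (F : X.Modules) (y : X) (s : F.presheaf.stalk (genericPoint X)) : ℤ :=
  Cyc.secOrdAt F (genericPoint X) y (hsp y) (Submodule.Quotient.mk s)

/-- A generator of a stalk, nonzero at the generic point. -/
def IsGenAt (F : X.Modules) (y : X) (t : F.presheaf.stalk y) : Prop :=
  Submodule.span (X.presheaf.stalk y) {t} = ⊤ ∧ toη F y t ≠ 0

lemma IsGenAt.exists_eq {F : X.Modules} {y : X} {t : F.presheaf.stalk y} (ht : IsGenAt F y t)
    (v : F.presheaf.stalk y) : ∃ a : X.presheaf.stalk y, a • t = v :=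
  Submodule.mem_span_singleton.mp (ht.1.ge Submodule.mem_top)

lemma IsGenAt.free {F : X.Modules} (hF : IsRankOne F) {y : X} {t : F.presheaf.stalk y}
    (ht : IsGenAt F y t) : Module.Free (X.presheaf.stalk y) (F.presheaf.stalk y) := by
  refine Module.Free.of_equiv (LinearEquiv.ofBijective
    (LinearMap.toSpanSingleton (X.presheaf.stalk y) (F.presheaf.stalk y) t) ⟨?_, fun v => ht.exists_eq v⟩)
  rw [injective_iff_map_eq_zero]
  intro a ha
  rw [LinearMap.toSpanSingleton_apply] at ha
  have h : toK y a • toη F y t = 0 := by rw [← sp_smul, ha, map_zero]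
  exact toK_injective y (((hF.eq_zero_or _ _ h).resolve_right ht.2).trans (map_zero _).symm)

lemma IsGenAt.stalkMap {F G : X.Modules} {y : X} {t : F.presheaf.stalk y} (ht : IsGenAt F y t)
    (φ : F ⟶ G) (hy : Function.Surjective (RefHull.stalkMapₗ φ y))
    (hη : Function.Injective (RefHull.stalkMapₗ φ (genericPoint X))) :
    IsGenAt G y (RefHull.stalkMapₗ φ y t) := by
  refine ⟨eq_top_iff.mpr fun v _ => ?_, fun h => ht.2 (hη ?_)⟩
  · obtain ⟨u, rfl⟩ := hy v
    obtain ⟨a, rfl⟩ := ht.exists_eq u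
    exact Submodule.mem_span_singleton.mpr ⟨a, (map_smul _ _ _).symm⟩
  · rw [← sp_stalkMap, map_zero]
    exact h

variable [IsLocallyNoetherian X]

lemma ordS_eq {F : X.Modules} (hF : IsRankOne F) {y : X} (hy : Order.coheight y = 1)
    {t : F.presheaf.stalk y} (ht : IsGenAt F y t) {φ : X.presheaf.stalk (genericPoint X)} (hφ : φ ≠ 0) :
    ordS F y (φ • toη F y t) = Scheme.ord φ y :=
  secOrdAt_eq hy ht.1 ht.2 hF.eq_zero_or hφ rfl

lemma ord_mul' {y : X} {a b : X.presheaf.stalk (genericPoint X)} (ha : a ≠ 0) (hb : b ≠ 0) :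
    Scheme.ord (a * b) y = Scheme.ord a y + Scheme.ord b y :=
  Scheme.ord_mul (x := y) (f := (a : X.functionField)) (g := (b : X.functionField)) ha hb

lemma rankOne_of_isRef1 {F : X.Modules} (hF : RefHull.IsRef1 F) : IsRankOne F :=
  isRankOne_of_genInvertible F hF.2.2

variable (hX : Pi1.IsNormalScheme X)

include hX in
lemma exists_isGenAt {F : X.Modules} (hF : RefHull.IsRef1 F) {y : X} (hy : Order.coheight y = 1) :
    ∃ t, IsGenAt F y t := by
  haveI := hF.1.1
  haveI := finite_stalk F hF.1.2 y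
  obtain ⟨_, hD⟩ := VarDim.isDiscreteValuationRing_stalk_of_coheight_eq_one hX y hy
  exact exists_gen F (rankOne_of_isRef1 hF) y (toη_injective_of_isReflexive F hF.1 hF.2.1 y)

include hX in
lemma exists_coord {F : X.Modules} (hF : RefHull.IsRef1 F) {y : X} (hy : Order.coheight y = 1)
    {s : F.presheaf.stalk (genericPoint X)} (hs : s ≠ 0) :
    ∃ (t : F.presheaf.stalk y) (φ : X.presheaf.stalk (genericPoint X)),
      IsGenAt F y t ∧ φ ≠ 0 ∧ s = φ • toη F y t ∧ ordS F y s = Scheme.ord φ y := by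
  obtain ⟨t, ht⟩ := exists_isGenAt hX hF hy
  obtain ⟨φ, rfl⟩ := (rankOne_of_isRef1 hF).exists_smul ht.2 s
  have hφ : φ ≠ 0 := fun h => hs (by rw [h, zero_smul])
  exact ⟨t, φ, ht, hφ, rfl, ordS_eq (rankOne_of_isRef1 hF) hy ht hφ⟩

include hX in
lemma ordS_smul {F : X.Modules} (hF : RefHull.IsRef1 F) {y : X} (hy : Order.coheight y = 1)
    {s : F.presheaf.stalk (genericPoint X)} (hs : s ≠ 0)
    {f : X.presheaf.stalk (genericPoint X)} (hf : f ≠ 0) :
    ordS F y (f • s) = ordS F y s + Scheme.ord f y := by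
  obtain ⟨t, φ, ht, hφ, rfl, e⟩ := exists_coord hX hF hy hs
  rw [e, smul_smul, ordS_eq (rankOne_of_isRef1 hF) hy ht (mul_ne_zero hf hφ), ord_mul' hf hφ, add_comm]

include hX in
/-- Equal divisors give isomorphic modules. -/
theorem iso_of_ordS_eq {F G : X.Modules} (hF : RefHull.IsRef1 F) (hG : RefHull.IsRef1 G)
    {s : F.presheaf.stalk (genericPoint X)} (hs : s ≠ 0)
    {t : G.presheaf.stalk (genericPoint X)} (ht : t ≠ 0)
    (h : ∀ y : X, Order.coheight y = 1 → ordS F y s = ordS G y t) : Nonempty (F ≅ G) := by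
  obtain ⟨T, hT⟩ := (rankOne_of_isRef1 hF).exists_equiv (rankOne_of_isRef1 hG) hs ht
  refine exists_iso_of_codim_one hX F G hF.1 hF.2.1 hG.1 hG.2.1 T fun y hy => ?_
  have hy' := coheight_eq_one hy
  obtain ⟨eF, φ, heF, hφ, hsφ, e1⟩ := exists_coord hX hF hy' hs
  obtain ⟨eG, ψ, heG, hψ, htψ, e2⟩ := exists_coord hX hG hy' ht
  obtain ⟨_, hD⟩ := VarDim.isDiscreteValuationRing_stalk_of_coheight_eq_one hX y hy'
  have hu : IsUnit φ := isUnit_of_ne_zero hφ
  have h0 : Scheme.ord (↑hu.unit⁻¹ * ψ : X.presheaf.stalk (genericPoint X)) y = 0 := by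
    have h3 := ord_mul' (y := y) hφ (mul_ne_zero (hu.unit⁻¹).isUnit.ne_zero hψ)
    rw [← mul_assoc, IsUnit.mul_val_inv, one_mul, ← e2, ← h y hy', e1] at h3
    omega
  obtain ⟨c, hc, hcφ⟩ := exists_unit_of_ord_eq_zero hy'
    (show ((↑hu.unit⁻¹ * ψ : X.presheaf.stalk (genericPoint X)) : X.functionField) ≠ 0 from
      mul_ne_zero (hu.unit⁻¹).isUnit.ne_zero hψ) h0
  have hTe : T (toη F y eF) = toη G y (c • eG) := by
    rw [toη, sp_smul]
    show _ = toK y c • toη G y eG
    rw [hcφ, mul_smul, ← htψ, ← hT, hsφ, map_smul, smul_smul, IsUnit.val_inv_mul, one_smul]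
  refine Set.Subset.antisymm ?_ ?_
  · rintro _ ⟨_, ⟨v, rfl⟩, rfl⟩
    obtain ⟨a, rfl⟩ := heF.exists_eq v
    refine ⟨(a * c) • eG, ?_⟩
    rw [toη, sp_smul, sp_smul, map_smul, hTe, toη, sp_smul, map_mul, mul_smul]
  · rintro _ ⟨v, rfl⟩
    obtain ⟨a, rfl⟩ := heG.exists_eq v
    refine ⟨toη F y ((a * ↑hc.unit⁻¹) • eF), ⟨_, rfl⟩, ?_⟩
    rw [toη, sp_smul, map_smul, hTe, toη, sp_smul, sp_smul, smul_smul, ← map_mul, mul_assoc,
      IsUnit.val_inv_mul, mul_one]

include hX in
/-- Isomorphic modules have linearly equivalent divisors. -/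
theorem exists_ordS_eq_of_iso {F G : X.Modules} (hF : RefHull.IsRef1 F) (hG : RefHull.IsRef1 G)
    (i : F ≅ G) {s : F.presheaf.stalk (genericPoint X)} (hs : s ≠ 0)
    {t : G.presheaf.stalk (genericPoint X)} (ht : t ≠ 0) :
    ∃ f : X.presheaf.stalk (genericPoint X), f ≠ 0 ∧
      ∀ y : X, Order.coheight y = 1 → ordS F y s = ordS G y t + Scheme.ord f y := by
  have hb := (isIso_iff_bijective_stalk i.hom).mp inferInstance
  obtain ⟨f, hf⟩ := (rankOne_of_isRef1 hG).exists_smul ht (RefHull.stalkMapₗ i.hom (genericPoint X) s)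
  have hf0 : f ≠ 0 := fun h => hs ((hb _).1 (by rw [hf, h, zero_smul, map_zero]))
  refine ⟨f, hf0, fun y hy => ?_⟩
  obtain ⟨eF, φ, heF, hφ, hsφ, e1⟩ := exists_coord hX hF hy hs
  rw [← ordS_smul hX hG hy ht hf0, ← hf, e1, hsφ, map_smul, ← sp_stalkMap]
  exact (ordS_eq (rankOne_of_isRef1 hG) hy (heF.stalkMap i.hom (hb y).2 (hb _).1) hφ).symm

/-- The stalk map of a tensor product, typed at `CohB1.tensorMod`. -/
def tfrom (F G : X.Modules) (x : X) :
    F.presheaf.stalk x ⊗[X.presheaf.stalk x] G.presheaf.stalk x →ₗ[X.presheaf.stalk x]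
      (CohB1.tensorMod F G).presheaf.stalk x :=
  fromTensor F G x

omit [IsLocallyNoetherian X] [IsIntegral X] in
lemma tfrom_surjective (F G : X.Modules) (x : X) : Function.Surjective (tfrom F G x) :=
  (stalkTensorEquiv F G x).symm.surjective

omit [IsLocallyNoetherian X] [IsIntegral X] in
lemma tfrom_injective (F G : X.Modules) (x : X) : Function.Injective (tfrom F G x) :=
  (stalkTensorEquiv F G x).symm.injective

omit [IsLocallyNoetherian X] [IsIntegral X] in
lemma sp_fromTensor (F G : X.Modules) {y x : X} (h : y ⤳ x) (a : F.presheaf.stalk x)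
    (b : G.presheaf.stalk x) :
    sp (CohB1.tensorMod F G) h (tfrom F G x (a ⊗ₜ b)) = tfrom F G y (sp F h a ⊗ₜ sp G h b) := by
  obtain ⟨U, hU, m, n, rfl, rfl⟩ := exists_rep a b
  rw [sp_germ, sp_germ]
  refine (congrArg (sp (CohB1.tensorMod F G) h) (fromTensor_germ U hU m n)).trans ?_
  refine Eq.trans ?_ (fromTensor_germ U (h.mem_open U.2 hU) m n).symm
  exact sp_germ (CohB1.tensorMod F G) h hU _

omit [IsIntegral X] in
lemma isCoh_tensorMod {F G : X.Modules} (hF : Coh.IsCoh F) (hG : Coh.IsCoh G) :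
    Coh.IsCoh (CohB1.tensorMod F G) := by
  haveI := hF.1
  haveI := hF.2
  haveI := hG.1
  haveI := hG.2
  exact ⟨LimTop.TensorQC.isQuasicoherent_tensM F G, LimTop.TensorQC.isFT_tensM F G⟩

omit [IsLocallyNoetherian X] in
lemma isRankOne_tensorMod {F G : X.Modules} (hF : IsRankOne F) (hG : IsRankOne G) :
    IsRankOne (CohB1.tensorMod F G) := by
  obtain ⟨e⟩ := hF
  obtain ⟨e'⟩ := hG
  exact ⟨(TensorProduct.lid _ _).symm ≪≫ₗ TensorProduct.congr e e' ≪≫ₗ
    (stalkTensorEquiv F G (genericPoint X)).symm⟩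

omit [IsLocallyNoetherian X] in
lemma tmul_ne_zero {F G : X.Modules} (hF : IsRankOne F) (hG : IsRankOne G)
    {a : F.presheaf.stalk (genericPoint X)} {b : G.presheaf.stalk (genericPoint X)}
    (ha : a ≠ 0) (hb : b ≠ 0) : a ⊗ₜ[X.presheaf.stalk (genericPoint X)] b ≠ 0 := by
  obtain ⟨e⟩ := hF
  obtain ⟨e'⟩ := hG
  intro h'
  have := congrArg (fun z => TensorProduct.lid _ _ (TensorProduct.congr e.symm e'.symm z)) h'
  simp only [TensorProduct.congr_tmul, TensorProduct.lid_tmul, map_zero, smul_eq_mul] at this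
  exact mul_ne_zero (fun h0 => ha (e.symm.injective (h0.trans (map_zero _).symm)))
    (fun h0 => hb (e'.symm.injective (h0.trans (map_zero _).symm))) this

/-- The product of two rational sections in the reflexive tensor product. -/
def tensorSec (F G : X.Modules) (s : F.presheaf.stalk (genericPoint X))
    (t : G.presheaf.stalk (genericPoint X)) :
    (RefHull.ddual (CohB1.tensorMod F G)).presheaf.stalk (genericPoint X) :=
  RefHull.stalkMapₗ (RefHull.bidualMap (CohB1.tensorMod F G)) (genericPoint X)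
    (tfrom F G (genericPoint X) (s ⊗ₜ t))

include hX in
/-- The divisor of a product is the sum. -/
theorem tensorSec_spec {F G : X.Modules} (hF : RefHull.IsRef1 F) (hG : RefHull.IsRef1 G)
    {s : F.presheaf.stalk (genericPoint X)} (hs : s ≠ 0)
    {t : G.presheaf.stalk (genericPoint X)} (ht : t ≠ 0) :
    RefHull.IsRef1 (RefHull.ddual (CohB1.tensorMod F G)) ∧ tensorSec F G s t ≠ 0 ∧
      ∀ y : X, Order.coheight y = 1 →
        ordS (RefHull.ddual (CohB1.tensorMod F G)) y (tensorSec F G s t) = ordS F y s + ordS G y t := by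
  have hH := isCoh_tensorMod hF.1 hG.1
  have hHr := isRankOne_tensorMod (rankOne_of_isRef1 hF) (rankOne_of_isRef1 hG)
  have hR := isRef1_ddual _ hH hHr
  have hη : Function.Bijective (RefHull.stalkMapₗ (RefHull.bidualMap (CohB1.tensorMod F G)) (genericPoint X)) := by
    obtain ⟨e⟩ := id hHr
    haveI := Module.Free.of_equiv e
    exact bijective_bidual_of_free _ hH _
  have hne : ∀ (a : F.presheaf.stalk (genericPoint X)) (b : G.presheaf.stalk (genericPoint X)),
      a ≠ 0 → b ≠ 0 → tfrom F G (genericPoint X) (a ⊗ₜ b) ≠ 0 := by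
    intro a b ha hb h
    obtain ⟨e⟩ := rankOne_of_isRef1 hF
    obtain ⟨e'⟩ := rankOne_of_isRef1 hG
    have h' : a ⊗ₜ[X.presheaf.stalk (genericPoint X)] b = 0 :=
      tfrom_injective F G (genericPoint X) (h.trans (map_zero _).symm)
    have := congrArg (fun z => TensorProduct.lid _ _ (TensorProduct.congr e.symm e'.symm z)) h'
    simp only [TensorProduct.congr_tmul, TensorProduct.lid_tmul, map_zero, smul_eq_mul] at this
    exact mul_ne_zero (fun h0 => ha (e.symm.injective (h0.trans (map_zero _).symm)))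
      (fun h0 => hb (e'.symm.injective (h0.trans (map_zero _).symm))) this
  refine ⟨hR, fun h => hne s t hs ht (hη.1 (h.trans (map_zero _).symm)), fun y hy => ?_⟩
  obtain ⟨eF, φ, heF, hφ, hsφ, e1⟩ := exists_coord hX hF hy hs
  obtain ⟨eG, ψ, heG, hψ, htψ, e2⟩ := exists_coord hX hG hy ht
  have hz : IsGenAt (CohB1.tensorMod F G) y (tfrom F G y (eF ⊗ₜ eG)) := by
    refine ⟨eq_top_iff.mpr fun v _ => ?_, ?_⟩
    · obtain ⟨u, hu⟩ := tfrom_surjective F G y v
      rw [← hu]
      clear hu
      induction u using TensorProduct.induction_on with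
      | zero => rw [map_zero]; exact zero_mem _
      | tmul m n =>
        obtain ⟨a, rfl⟩ := heF.exists_eq m
        obtain ⟨b, rfl⟩ := heG.exists_eq n
        rw [← TensorProduct.smul_tmul', TensorProduct.tmul_smul, map_smul, map_smul]
        exact Submodule.smul_mem _ _ (Submodule.smul_mem _ _ (Submodule.mem_span_singleton_self _))
      | add p q hp hq => rw [map_add]; exact add_mem hp hq
    · rw [toη, sp_fromTensor]
      exact hne _ _ heF.2 heG.2
  haveI := hz.free hHr
  have hb := bijective_bidual_of_free _ hH y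
  have hw : tensorSec F G s t = (φ * ψ) • toη (RefHull.ddual (CohB1.tensorMod F G)) y
      (RefHull.stalkMapₗ (RefHull.bidualMap (CohB1.tensorMod F G)) y (tfrom F G y (eF ⊗ₜ eG))) := by
    rw [toη, sp_stalkMap, sp_fromTensor, tensorSec, hsφ, htψ, ← TensorProduct.smul_tmul',
      TensorProduct.tmul_smul, map_smul, map_smul, map_smul, map_smul, smul_smul]
  rw [e1, e2, ← ord_mul' hφ hψ, hw,
    ordS_eq (rankOne_of_isRef1 hR) hy (hz.stalkMap _ hb.2 hη.1) (mul_ne_zero hφ hψ)]

lemma isRef1_structureModule : RefHull.IsRef1 (Coh.structureModule X) := by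
  refine ⟨isCoh_structureModule, (isReflexive_iff_of_isCoh _ isCoh_structureModule).mpr fun x => ?_,
    genInvertible_of_isRankOne _ isCoh_structureModule ⟨unitStalk _⟩⟩
  haveI := Module.Free.of_equiv (unitStalk (X := X) x)
  haveI := finite_stalk (Coh.structureModule X) isCoh_structureModule.2 x
  exact (inferInstance : Module.IsReflexive (X.presheaf.stalk x) ((Coh.structureModule X).presheaf.stalk x))

lemma ordS_one {y : X} (hy : Order.coheight y = 1) :
    ordS (Coh.structureModule X) y (unitStalk (genericPoint X) 1) = 0 := by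
  have hg : IsGenAt (Coh.structureModule X) y (unitStalk y 1) := by
    refine ⟨eq_top_iff.mpr fun v _ => ?_, ?_⟩
    · obtain ⟨a, rfl⟩ := (unitStalk y).surjective v
      exact Submodule.mem_span_singleton.mpr ⟨a, by rw [← map_smul, smul_eq_mul, mul_one]⟩
    · rw [toη, sp_unitStalk, map_one (spR (hsp y))]
      exact fun h => one_ne_zero ((unitStalk (genericPoint X)).injective (h.trans (map_zero _).symm))
  have h1 : unitStalk (genericPoint X) 1 =
      (1 : X.presheaf.stalk (genericPoint X)) • toη (Coh.structureModule X) y (unitStalk y 1) := by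
    rw [one_smul, toη, sp_unitStalk, map_one (spR (hsp y))]
  rw [h1, ordS_eq ⟨unitStalk _⟩ hy hg one_ne_zero, ← map_one (toK y), ord_toK_of_isUnit hy isUnit_one]

omit [IsLocallyNoetherian X] in
lemma toK_dualEquiv (F : X.Modules) (hF : CohB1.IsFP F) (y : X)
    (θ : (RefHull.dual F).presheaf.stalk y) (v : F.presheaf.stalk y) :
    toK y (dualEquiv F hF y θ v) =
      dualEquiv F hF (genericPoint X) (toη (RefHull.dual F) y θ) (toη F y v) := by
  obtain ⟨W, hW, g, rfl⟩ := exists_germM_eq (RefHull.dual F) y θ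
  rw [dualEquiv_apply, dualEquiv_apply, eq_comm, LinearEquiv.symm_apply_eq, toK, ← sp_unitStalk,
    LinearEquiv.apply_symm_apply, toη, sp_germ, RefHull.evalStalk_germ, RefHull.evalStalk_germ]
  exact (sp_value g (hsp y) hW v).symm

lemma isRef1_dual {F : X.Modules} (hF : RefHull.IsRef1 F) : RefHull.IsRef1 (RefHull.dual F) := by
  have hD := isCoh_dual F hF.1
  have hFP := isFP_of_isCoh F hF.1
  refine ⟨hD, (isReflexive_iff_of_isCoh _ hD).mpr fun x => ?_, genInvertible_of_isRankOne _ hD ?_⟩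
  · haveI := finite_stalk F hF.1.2 x
    haveI := DomMod.isReflexive_dual (R := X.presheaf.stalk x) (F.presheaf.stalk x)
    exact Module.equiv (dualEquiv F hFP x).symm
  · obtain ⟨e⟩ := rankOne_of_isRef1 hF
    exact ⟨(LinearMap.ringLmapEquivSelf (X.presheaf.stalk (genericPoint X))
      (X.presheaf.stalk (genericPoint X)) (X.presheaf.stalk (genericPoint X))).symm ≪≫ₗ
      e.symm.dualMap ≪≫ₗ (dualEquiv F hFP _).symm⟩

include hX in
/-- The dual has the opposite divisor. -/
theorem exists_dualSec {F : X.Modules} (hF : RefHull.IsRef1 F)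
    {s : F.presheaf.stalk (genericPoint X)} (hs : s ≠ 0) :
    ∃ w : (RefHull.dual F).presheaf.stalk (genericPoint X), w ≠ 0 ∧
      ∀ y : X, Order.coheight y = 1 → ordS (RefHull.dual F) y w = - ordS F y s := by
  have hFP := isFP_of_isCoh F hF.1
  have hR := isRef1_dual hF
  obtain ⟨e⟩ := rankOne_of_isRef1 hF
  have hs' : e.symm s ≠ 0 := fun h => hs (e.symm.injective (h.trans (map_zero _).symm))
  let hu := isUnit_of_ne_zero hs'
  let w := (dualEquiv F hFP (genericPoint X)).symm
    ((↑hu.unit⁻¹ : X.presheaf.stalk (genericPoint X)) • e.symm.toLinearMap)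
  have hw : dualEquiv F hFP (genericPoint X) w s = 1 := by
    rw [LinearEquiv.apply_symm_apply, LinearMap.smul_apply, smul_eq_mul]
    exact hu.val_inv_mul
  refine ⟨w, fun h => one_ne_zero (hw.symm.trans (by rw [h, map_zero, LinearMap.zero_apply])), fun y hy => ?_⟩
  obtain ⟨eF, φ, heF, hφ, hsφ, e1⟩ := exists_coord hX hF hy hs
  obtain ⟨θ, hθ⟩ := exists_isGenAt hX hR hy
  obtain ⟨α, hα⟩ := (rankOne_of_isRef1 hR).exists_smul hθ.2 w
  set c := dualEquiv F hFP y θ eF with hc
  have hcu : IsUnit c := by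
    haveI := heF.free (rankOne_of_isRef1 hF)
    have hbij : Function.Bijective (LinearMap.toSpanSingleton (X.presheaf.stalk y) (F.presheaf.stalk y) eF) := by
      refine ⟨?_, fun v => heF.exists_eq v⟩
      rw [injective_iff_map_eq_zero]
      intro a ha
      rw [LinearMap.toSpanSingleton_apply] at ha
      have h : toK y a • toη F y eF = 0 := by rw [← sp_smul, ha, map_zero]
      exact toK_injective y (((rankOne_of_isRef1 hF).eq_zero_or _ _ h).resolve_right heF.2 |>.trans (map_zero _).symm)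
    obtain ⟨θ₁, hθ₁⟩ := (dualEquiv F hFP y).surjective (LinearEquiv.ofBijective _ hbij).symm.toLinearMap
    obtain ⟨a, ha⟩ := hθ.exists_eq θ₁
    have h1 : (LinearEquiv.ofBijective _ hbij).symm eF = 1 := by
      rw [LinearEquiv.symm_apply_eq, LinearEquiv.ofBijective_apply, LinearMap.toSpanSingleton_apply, one_smul]
    rw [← ha, map_smul] at hθ₁
    refine IsUnit.of_mul_eq_one_right a ?_
    have h2 := (LinearMap.congr_fun hθ₁ eF).trans h1
    rwa [LinearMap.smul_apply, smul_eq_mul] at h2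
  have hprod : α * (φ * toK y c) = 1 := by
    rw [← hw, hα, hsφ, map_smul, map_smul, LinearMap.smul_apply, smul_eq_mul, smul_eq_mul, hc, toK_dualEquiv]
    ring
  have hc0 : toK y c ≠ 0 := toK_ne_zero hcu.ne_zero
  have hα0 : α ≠ 0 := left_ne_zero_of_mul_eq_one hprod
  rw [hα, ordS_eq (rankOne_of_isRef1 hR) hy hθ hα0, e1]
  have h3 := ord_mul' (y := y) hα0 (mul_ne_zero hφ hc0)
  have h4 := ord_mul' (y := y) hφ hc0
  rw [hprod, ← map_one (toK y), ord_toK_of_isUnit hy isUnit_one] at h3
  rw [ord_toK_of_isUnit hy hcu] at h4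
  omega

end Groth.Agent.Ref1

end
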