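import Groth.Agent.Ref1.Extend
import Groth.Agent.LFFrame.Basic
import Groth.Agent.Props.QProj
import Groth.Agent.DomMod.Reflexive
import Mathlib.RingTheory.Localization.Module
import Mathlib.RingTheory.DiscreteValuationRing.Basic
import Mathlib.LinearAlgebra.FreeModule.PID

/-!
# Rank one modules: generic stalk, generators in codimension one, generic invertibility
-/

universe u

open CategoryTheory Limits AlgebraicGeometry Opposite TopologicalSpace

noncomputable section

namespace Groth.Agent.Ref1

open Groth.Agent.PullStalk.Sky Groth.Agent.HomShQC Groth.Agent.LFFrame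

variable {X : Scheme.{u}} [IsIntegral X]

/-- The generic stalk is one-dimensional. -/
def IsRankOne (F : X.Modules) : Prop :=
  Nonempty (X.presheaf.stalk (genericPoint X) ≃ₗ[X.presheaf.stalk (genericPoint X)]
    F.presheaf.stalk (genericPoint X))

lemma IsRankOne.eq_zero_or {F : X.Modules} (hF : IsRankOne F) (a : X.presheaf.stalk (genericPoint X))
    (w : F.presheaf.stalk (genericPoint X)) (h : a • w = 0) : a = 0 ∨ w = 0 := by
  obtain ⟨e⟩ := hF
  by_cases ha : a = 0
  · exact Or.inl ha
  · exact Or.inr ((isUnit_of_ne_zero ha).smul_eq_zero.mp h)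

lemma IsRankOne.exists_smul {F : X.Modules} (hF : IsRankOne F)
    {w : F.presheaf.stalk (genericPoint X)} (hw : w ≠ 0) (v : F.presheaf.stalk (genericPoint X)) :
    ∃ a : X.presheaf.stalk (genericPoint X), v = a • w := by
  obtain ⟨e⟩ := hF
  have h0 : e.symm w ≠ 0 := fun h => hw (e.symm.injective (h.trans (map_zero _).symm))
  refine ⟨e.symm v * ↑(isUnit_of_ne_zero h0).unit⁻¹, e.symm.injective ?_⟩
  rw [map_smul, smul_eq_mul, mul_assoc, IsUnit.val_inv_mul, mul_one]

lemma IsRankOne.exists_ne_zero {F : X.Modules} (hF : IsRankOne F) :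
    ∃ w : F.presheaf.stalk (genericPoint X), w ≠ 0 := by
  obtain ⟨e⟩ := hF
  exact ⟨e 1, fun h => one_ne_zero (e.injective (h.trans (map_zero _).symm))⟩

/-- The isomorphism of generic stalks sending a given basis to a given basis. -/
lemma IsRankOne.exists_equiv {F G : X.Modules} (hF : IsRankOne F) (hG : IsRankOne G)
    {s : F.presheaf.stalk (genericPoint X)} (hs : s ≠ 0)
    {t : G.presheaf.stalk (genericPoint X)} (ht : t ≠ 0) :
    ∃ T : F.presheaf.stalk (genericPoint X) ≃ₗ[X.presheaf.stalk (genericPoint X)]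
      G.presheaf.stalk (genericPoint X), T s = t := by
  have hb : ∀ (H : X.Modules), IsRankOne H → ∀ r : H.presheaf.stalk (genericPoint X), r ≠ 0 →
      Function.Bijective (LinearMap.toSpanSingleton (X.presheaf.stalk (genericPoint X)) _ r) := by
    intro H hH r hr
    refine ⟨?_, fun v => ?_⟩
    · rw [injective_iff_map_eq_zero]
      exact fun a ha => (hH.eq_zero_or a r ha).resolve_right hr
    · obtain ⟨a, rfl⟩ := hH.exists_smul hr v
      exact ⟨a, rfl⟩
  refine ⟨(LinearEquiv.ofBijective _ (hb F hF s hs)).symm.trans (LinearEquiv.ofBijective _ (hb G hG t ht)), ?_⟩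
  have h1 : (LinearEquiv.ofBijective _ (hb F hF s hs)).symm s = 1 := by
    rw [LinearEquiv.symm_apply_eq, LinearEquiv.ofBijective_apply, LinearMap.toSpanSingleton_apply, one_smul]
  rw [LinearEquiv.trans_apply, h1, LinearEquiv.ofBijective_apply, LinearMap.toSpanSingleton_apply, one_smul]

/-- Rank one modules with torsion free stalk have generators at DVR points. -/
theorem exists_gen (F : X.Modules) [F.IsQuasicoherent] (hF : IsRankOne F) (y : X)
    [IsDiscreteValuationRing (X.presheaf.stalk y)]
    [Module.Finite (X.presheaf.stalk y) (F.presheaf.stalk y)]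
    (hinj : Function.Injective (toη F y)) :
    ∃ t : F.presheaf.stalk y, Submodule.span (X.presheaf.stalk y) {t} = ⊤ ∧ toη F y t ≠ 0 := by
  obtain ⟨e⟩ := id hF
  let K := X.functionField
  let ι : F.presheaf.stalk y →ₗ[X.presheaf.stalk y] K :=
    { toFun := fun v => e.symm (toη F y v)
      map_add' := fun a b => by rw [map_add, map_add]
      map_smul' := fun a v => by
        rw [toη, sp_smul, map_smul, RingHom.id_apply, Algebra.smul_def]
        rfl }
  have hι : Function.Injective ι := e.symm.injective.comp hinj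
  haveI : Module.IsTorsionFree (X.presheaf.stalk y) K := inferInstance
  haveI : Module.IsTorsionFree (X.presheaf.stalk y) (F.presheaf.stalk y) :=
    hι.moduleIsTorsionFree _ ι.map_smul
  haveI : Module.Free (X.presheaf.stalk y) (F.presheaf.stalk y) :=
    Module.free_of_finite_type_torsion_free'
  let b := Module.Free.chooseBasis (X.presheaf.stalk y) (F.presheaf.stalk y)
  have hli : LinearIndependent K (ι ∘ b) :=
    (LinearIndependent.iff_fractionRing (X.presheaf.stalk y) K).mp
      (b.linearIndependent.map' ι (LinearMap.ker_eq_bot.mpr hι))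
  have hcard : Fintype.card (Module.Free.ChooseBasisIndex (X.presheaf.stalk y) (F.presheaf.stalk y)) ≤ 1 := by
    refine hli.fintype_card_le_finrank.trans ?_
    rw [Module.finrank_self]
  obtain ⟨w, hw⟩ := hF.exists_ne_zero
  obtain ⟨a, v, ha, hv⟩ := exists_smul_eq_toη F y w
  have hv0 : v ≠ 0 := by
    rintro rfl
    rw [map_zero] at hv
    exact hw ((isUnit_of_ne_zero (toK_ne_zero ha)).smul_eq_zero.mp hv.symm)
  obtain ⟨i⟩ : Nonempty (Module.Free.ChooseBasisIndex (X.presheaf.stalk y) (F.presheaf.stalk y)) := by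
    by_contra h
    rw [not_nonempty_iff] at h
    exact hv0 (b.repr.injective (Subsingleton.elim _ _))
  haveI := Fintype.card_le_one_iff_subsingleton.mp hcard
  refine ⟨b i, ?_, fun h => b.ne_zero i (hinj (h.trans (map_zero _).symm))⟩
  rw [← b.span_eq]
  congr 1
  exact Set.ext fun z => ⟨fun hz => ⟨i, (Set.mem_singleton_iff.mp hz).symm⟩,
    fun ⟨j, hj⟩ => by rw [← hj, Subsingleton.elim j i]; rfl⟩

omit [IsIntegral X] in
lemma free_of_gen_frame {M : X.Modules} {U : X.Opens} {e : Fin 1 → Γ(M, U)} (he : IsFrame M U e)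
    (x : X) (hx : x ∈ U) :
    Nonempty (X.presheaf.stalk x ≃ₗ[X.presheaf.stalk x] M.presheaf.stalk x) := by
  refine ⟨LinearEquiv.ofBijective (LinearMap.toSpanSingleton _ _ (germM M U x hx (e 0))) ?_⟩
  have h := (he.stalkComb_bijective x hx).comp
    (show Function.Bijective (fun (a : X.presheaf.stalk x) => (fun _ => a : Fin 1 → X.presheaf.stalk x)) from
      ⟨fun a b h => congrFun h 0, fun a => ⟨a 0, funext fun i => by rw [Subsingleton.elim i 0]⟩⟩)
  convert! h using 1
  funext a
  simp [stalkComb, Fintype.linearCombination_apply, LinearMap.toSpanSingleton_apply]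

omit [IsIntegral X] in
/-- A frame of a restriction gives a frame of the module. -/
lemma isFrame_of_restrict {M : X.Modules} {V : X.Opens} {U' : (V : Scheme.{u}).Opens} {n : ℕ}
    {e : Fin n → Γ(M.restrict V.ι, U')} (he : IsFrame (M.restrict V.ι) U' e) :
    IsFrame M (V.ι ''ᵁ U') (fun i => (e i : Γ(M, V.ι ''ᵁ U'))) := by
  intro W hW
  have hWV : V.ι ''ᵁ (V.ι ⁻¹ᵁ W) = W := by
    rw [Scheme.Hom.image_preimage_eq_opensRange_inf, Scheme.Opens.opensRange_ι]
    exact inf_eq_right.mpr (hW.trans (V.ι_image_le U'))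
  obtain ⟨W', rfl⟩ : ∃ W' : (V : Scheme.{u}).Opens, V.ι ''ᵁ W' = W := ⟨_, hWV⟩
  have hle : W' ≤ U' := fun x hx => by
    obtain ⟨z, hz, hzx⟩ := hW ⟨x, hx, rfl⟩
    rwa [← V.ι.isOpenEmbedding.injective hzx]
  have h := he W' hle
  convert! h using 1
  funext a
  refine Finset.sum_congr rfl fun i _ => ?_
  change a i • (M.presheaf.map (homOfLE hW).op (e i) : Γ(M, V.ι ''ᵁ W')) =
    ((V.ι.appIso W').inv (show Γ((V : Scheme.{u}), W') from a i)) • (M.presheaf.map (homOfLE hW).op (e i) : Γ(M, V.ι ''ᵁ W'))
  rw [Scheme.Opens.ι_appIso]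
  rfl

/-- Generically invertible modules have rank one. -/
theorem isRankOne_of_genInvertible (F : X.Modules) (hF : RefHull.GenInvertible F) : IsRankOne F := by
  obtain ⟨V, hVd, hV⟩ := hF
  obtain ⟨x, hx⟩ := hVd.nonempty
  obtain ⟨U', hxU', ⟨φ⟩⟩ := hV ⟨x, hx⟩
  obtain ⟨e, he⟩ := exists_isFrame_of_split (M := F.restrict V.ι) (fun _ : Fin 1 => φ.inv)
    (fun _ => φ.hom) (fun i j => by simp [Subsingleton.elim i j]) (by simp)
  exact free_of_gen_frame (isFrame_of_restrict he) (genericPoint X)
    (((genericPoint_spec X).mem_open_set_iff (V.ι ''ᵁ U').2).mpr ⟨x, trivial, ⟨x, hx⟩, hxU', rfl⟩)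

variable [IsLocallyNoetherian X]

/-- A coherent module of rank one is generically invertible. -/
theorem genInvertible_of_isRankOne (F : X.Modules) (hF : Coh.IsCoh F) (h : IsRankOne F) :
    RefHull.GenInvertible F := by
  classical
  haveI := hF.1
  haveI := hF.2
  obtain ⟨e₀⟩ := h
  obtain ⟨_, ⟨U, hU, rfl⟩, hηU, -⟩ :=
    X.isBasis_affineOpens.exists_subset_of_mem_open (Set.mem_univ (genericPoint X)) isOpen_univ
  replace hU : IsAffineOpen U := hU
  haveI : IsNoetherianRing Γ(X, U) := IsLocallyNoetherian.component_noetherian ⟨U, hU⟩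
  haveI := QCoh.finite_sections_of_isFiniteType F hU
  obtain ⟨V, n, hηV, ⟨φ⟩⟩ := Props.QProj.exists_free_nhd F hU hηU
    (Module.finitePresentation_of_finite _ _) (Module.Free.of_equiv e₀)
  let p : Fin n → (FlatMod.freeMod (V : Scheme.{u}) n ⟶ Coh.structureModule (V : Scheme.{u})) :=
    fun j => Sigma.desc fun i => if i = j then 𝟙 _ else 0
  obtain ⟨e, he⟩ := exists_isFrame_of_split (M := F)
    (fun i => Sigma.ι (fun _ : Fin n => Coh.structureModule (V : Scheme.{u})) i ≫ φ.inv)
    (fun j => φ.hom ≫ p j) (fun i j => by simp [p]) (by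
      rw [← cancel_epi φ.inv, ← cancel_mono φ.hom]
      apply Sigma.hom_ext
      intro j
      simp [p, Preadditive.comp_sum, Preadditive.sum_comp, Finset.sum_ite_eq', ite_comp])
  have hn : n = 1 := by
    have hb := he.stalkComb_bijective (genericPoint X) hηV
    have := LinearEquiv.finrank_eq ((LinearEquiv.ofBijective (stalkComb F e (genericPoint X) hηV) hb).trans e₀.symm)
    simpa using this
  subst hn
  have hd : Dense (V : Set X) := by
    rw [dense_iff_closure_eq, Set.eq_univ_iff_forall]
    exact fun z => closure_mono (Set.singleton_subset_iff.mpr hηV)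
      ((genericPoint_spec X).specializes (Set.mem_univ z)).mem_closure
  obtain ⟨ψ⟩ := he.nonempty_restrict_iso
  exact ⟨V, hd, fun y => ⟨⊤, trivial,
    ⟨(Scheme.Modules.restrictFunctor (⊤ : (V : Scheme.{u}).Opens).ι).mapIso ψ ≪≫
      Scheme.Modules.restrictUnitIso _⟩⟩⟩

omit [IsIntegral X] in
/-- Biduality is bijective at points with free stalk. -/
theorem bijective_bidual_of_free (H : X.Modules) (hH : Coh.IsCoh H) (x : X)
    [Module.Free (X.presheaf.stalk x) (H.presheaf.stalk x)] :
    Function.Bijective (RefHull.stalkMapₗ (RefHull.bidualMap H) x) := by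
  haveI := finite_stalk H hH.2 x
  exact (bijective_stalk_bidual_iff H (isFP_of_isCoh H hH) (isFP_of_isCoh _ (isCoh_dual H hH)) x).mpr
    (show Module.IsReflexive (X.presheaf.stalk x) (H.presheaf.stalk x) from inferInstance)

/-- The reflexive hull of a coherent module of rank one is a rank one reflexive module. -/
theorem isRef1_ddual (H : X.Modules) (hH : Coh.IsCoh H) (h : IsRankOne H) :
    RefHull.IsRef1 (RefHull.ddual H) := by
  have hD := isCoh_dual H hH
  have hDD := isCoh_dual _ hD
  refine ⟨hDD, (isReflexive_iff_of_isCoh _ hDD).mpr fun x => ?_, genInvertible_of_isRankOne _ hDD ?_⟩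
  · haveI := finite_stalk H hH.2 x
    haveI := DomMod.finite_dual (R := X.presheaf.stalk x) (H.presheaf.stalk x)
    haveI := DomMod.isReflexive_dual (R := X.presheaf.stalk x)
      (Module.Dual (X.presheaf.stalk x) (H.presheaf.stalk x))
    exact Module.equiv (ddualEquiv H (isFP_of_isCoh H hH) (isFP_of_isCoh _ hD) x).symm
  · obtain ⟨e⟩ := h
    haveI := Module.Free.of_equiv e
    exact ⟨e.trans (LinearEquiv.ofBijective _ (bijective_bidual_of_free H hH (genericPoint X)))⟩

end Groth.Agent.Ref1

end
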