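import Groth.Agent.Ref1.Normal
import Groth.Prelude.Def_RefFun

/-!
# Morphisms from maps of generic stalks; reflexive modules are determined in codimension one
-/

universe u

open CategoryTheory Limits AlgebraicGeometry Opposite TopologicalSpace

noncomputable section

namespace Groth.Agent.Ref1

open Groth.Agent.PullStalk.Sky Groth.Agent.HomShQC Groth.Agent.QCoh

variable {X : Scheme.{u}}

/-- The morphism given by a global section of the sheaf Hom. -/
def homOfSec {F G : X.Modules} (g : Γ(RefHull.homSh F G, ⊤)) : F ⟶ G :=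
  ⟨PresheafOfModules.homMk
    { app := fun U => AddCommGrpCat.ofHom
        (sec F G (res (RefHull.homSh F G) (le_top : U.unop ≤ ⊤) g)).toAddMonoidHom
      naturality := fun {U V} i => by
        ext m
        refine sec_ext G fun y hy => ?_
        change germM G V.unop y hy (sec F G _ (F.presheaf.map i m)) =
          germM G V.unop y hy (G.presheaf.map i (sec F G _ m))
        refine (germM_sec F G _ _ ⟨y, hy⟩).trans ?_
        refine Eq.trans ?_ (G.presheaf.germ_res_apply i.unop y hy _).symm
        refine Eq.trans ?_ (germM_sec F G _ _ ⟨y, i.unop.le hy⟩).symm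
        exact congrArg _ (F.presheaf.germ_res_apply i.unop y hy m) }
    (fun U r m => (sec F G (res (RefHull.homSh F G) (le_top : U.unop ≤ ⊤) g)).map_smul r m)⟩

lemma stalkMapₗ_homOfSec {F G : X.Modules} (g : Γ(RefHull.homSh F G, ⊤)) (x : X) :
    RefHull.stalkMapₗ (homOfSec g) x = g.1 ⟨x, trivial⟩ := by
  refine LinearMap.ext fun v => ?_
  obtain ⟨U, hx, m, rfl⟩ := exists_germM_eq F x v
  refine (RefHull.stalkMapₗ_germ (homOfSec g) x hx m).trans ?_
  exact germM_sec F G (res (RefHull.homSh F G) (le_top : U ≤ ⊤) g) m ⟨x, hx⟩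

variable [IsIntegral X]

/-- A map of generic stalks preserving all stalks comes from a morphism. -/
theorem exists_hom_of_generic {F G : X.Modules} (hG : ∀ x, Function.Injective (toη G x))
    (T : RefHull.StalkHom F G (genericPoint X))
    (hT : ∀ (x : X) (v : F.presheaf.stalk x), T (toη F x v) ∈ Set.range (toη G x)) :
    ∃ ψ : F ⟶ G, RefHull.stalkMapₗ ψ (genericPoint X) = T := by
  choose f hf using hT
  let fl : ∀ x : X, RefHull.StalkHom F G x := fun x =>
    { toFun := f x
      map_add' := fun a b => hG x (by rw [map_add, hf, hf, hf, map_add, map_add])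
      map_smul' := fun a v => hG x (by
        rw [RingHom.id_apply, hf, toη, sp_smul, sp_smul, map_smul, hf]) }
  have hfl : ∀ x v, toη G x (fl x v) = T (toη F x v) := hf
  have hloc : RefHull.IsLocSect F G (U := ⊤) (fun x => fl x.1) := by
    intro V i m x
    obtain ⟨W₀, hxW₀, n, hn⟩ := exists_germM_eq G x.1 (fl x.1 (germM F V x.1 x.2 m))
    refine ⟨W₀ ⊓ V, ⟨hxW₀, x.2⟩, homOfLE inf_le_right, res G inf_le_left n, fun y => hG y.1 ?_⟩
    rw [hfl]
    change T (sp F (hsp y.1) _) = sp G (hsp y.1) (germM G (W₀ ⊓ V) y.1 y.2 (res G inf_le_left n))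
    rw [sp_germ G (hsp y.1) y.2, germM_res, sp_germ F (hsp y.1) y.2.2,
      ← sp_germ G (hsp x.1) hxW₀, hn, hfl]
    exact congrArg T (sp_germ F (hsp x.1) x.2 m).symm
  refine ⟨homOfSec ⟨fun x => fl x.1, hloc⟩, ?_⟩
  rw [stalkMapₗ_homOfSec]
  refine LinearMap.ext fun v => hG _ ?_
  change toη G _ (fl _ v) = _
  rw [hfl]
  have hid : ∀ (H : X.Modules) (w : H.presheaf.stalk (genericPoint X)),
      toη H (genericPoint X) w = w := by
    intro H w
    obtain ⟨U, hU, m, rfl⟩ := exists_germM_eq H (genericPoint X) w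
    exact sp_germ H _ hU m
  rw [hid, hid]

variable [IsLocallyNoetherian X]

/-- Stalks of coherent reflexive modules are torsion free. -/
theorem toη_injective_of_isReflexive (G : X.Modules) (hG : Coh.IsCoh G) (hGr : RefHull.IsReflexive G)
    (x : X) : Function.Injective (toη G x) := by
  haveI := hG.1
  refine toη_injective G x ?_
  haveI : Module.IsReflexive (X.presheaf.stalk x) (G.presheaf.stalk x) :=
    (isReflexive_iff_of_isCoh G hG).mp hGr x
  haveI : Module.IsTorsionFree (X.presheaf.stalk x) (Module.Dual (X.presheaf.stalk x)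
      (Module.Dual (X.presheaf.stalk x) (G.presheaf.stalk x))) := inferInstance
  exact (Module.bijective_dual_eval (X.presheaf.stalk x) (G.presheaf.stalk x)).1.moduleIsTorsionFree _
    (Module.Dual.eval _ _).map_smul

/-- A coherent reflexive module on a normal scheme is determined in codimension one. -/
theorem mem_range_of_codim_one (hX : Pi1.IsNormalScheme X) (G : X.Modules) (hG : Coh.IsCoh G)
    (hGr : RefHull.IsReflexive G) (x : X) (w : G.presheaf.stalk (genericPoint X))
    (h : ∀ y : X, y ⤳ x → ringKrullDim (X.presheaf.stalk y) = 1 → w ∈ Set.range (toη G y)) :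
    w ∈ Set.range (toη G x) := by
  haveI := hG.1
  haveI : Module.IsReflexive (X.presheaf.stalk x) (G.presheaf.stalk x) :=
    (isReflexive_iff_of_isCoh G hG).mp hGr x
  have hFP := isFP_of_isCoh G hG
  let O := Coh.structureModule X
  let η := genericPoint X
  let ε := RefHull.evalStalk G O x
  -- the value at the generic point of a germ of a linear form
  let val : (RefHull.dual G).presheaf.stalk x →
      (G.presheaf.stalk η → X.presheaf.stalk η) := fun θ u =>
    (unitStalk η).symm (RefHull.evalStalk G O η (toη (RefHull.dual G) x θ) u)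
  have hval : ∀ (θ : (RefHull.dual G).presheaf.stalk x) (v : G.presheaf.stalk x),
      val θ (toη G x v) = toK x (dualEquiv G hFP x θ v) := by
    intro θ v
    obtain ⟨W, hxW, g, rfl⟩ := exists_germM_eq (RefHull.dual G) x θ
    refine (LinearEquiv.symm_apply_eq _).mpr ?_
    rw [dualEquiv_apply, toK, ← sp_unitStalk, LinearEquiv.apply_symm_apply, toη, sp_germ,
      RefHull.evalStalk_germ, RefHull.evalStalk_germ]
    exact (sp_value g (hsp x) hxW v).symm
  have hran : ∀ θ, val θ w ∈ Set.range (toK x) := by
    intro θ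
    refine mem_range_toK_of_codim_one hX x _ fun y hyx hy => ?_
    obtain ⟨v, hv⟩ := h y hyx hy
    obtain ⟨W, hxW, g, rfl⟩ := exists_germM_eq (RefHull.dual G) x θ
    have hyW := hyx.mem_open W.2 hxW
    refine ⟨(unitStalk y).symm (g.1 ⟨y, hyW⟩ v), ?_⟩
    refine Eq.symm ((LinearEquiv.symm_apply_eq _).mpr ?_)
    rw [toK, ← sp_unitStalk, LinearEquiv.apply_symm_apply, toη, sp_germ, RefHull.evalStalk_germ, ← hv]
    exact (sp_value g (hsp y) hyW v).symm
  choose r hr using hran
  have hadd : ∀ θ θ', val (θ + θ') w = val θ w + val θ' w := fun θ θ' => by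
    simp only [val, map_add, LinearMap.add_apply]
  have hsmul : ∀ (a : X.presheaf.stalk x) θ, val (a • θ) w = toK x a * val θ w := fun a θ => by
    simp only [val, toη, sp_smul, map_smul, LinearMap.smul_apply, smul_eq_mul]
  let Φ : Module.Dual (X.presheaf.stalk x) ((RefHull.dual G).presheaf.stalk x) :=
    { toFun := r
      map_add' := fun θ θ' => toK_injective x (by rw [map_add, hr, hr, hr, hadd])
      map_smul' := fun a θ => toK_injective x (by rw [RingHom.id_apply, smul_eq_mul, map_mul, hr, hr, hsmul]) }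
  obtain ⟨v, hv⟩ := (Module.bijective_dual_eval (X.presheaf.stalk x) (G.presheaf.stalk x)).2
    (Φ.comp (dualEquiv G hFP x).symm.toLinearMap)
  refine ⟨v, ?_⟩
  have hsep : ∀ θ, val θ (toη G x v - w) = 0 := by
    intro θ
    have h1 : dualEquiv G hFP x θ v = r θ := by
      refine (LinearMap.congr_fun hv (dualEquiv G hFP x θ)).trans ?_
      exact congrArg r ((dualEquiv G hFP x).symm_apply_apply θ)
    show (unitStalk η).symm _ = 0
    rw [map_sub, map_sub]
    exact sub_eq_zero.mpr ((hval θ v).trans (by rw [h1, hr]))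
  obtain ⟨a, v', ha, hv'⟩ := exists_smul_eq_toη G x (toη G x v - w)
  have hv0 : v' = 0 := by
    refine (Module.bijective_dual_eval (X.presheaf.stalk x) (G.presheaf.stalk x)).1 ?_
    rw [map_zero]
    refine LinearMap.ext fun φ => toK_injective x ?_
    obtain ⟨θ, rfl⟩ := (dualEquiv G hFP x).surjective φ
    rw [Module.Dual.eval_apply, ← hval, hv', LinearMap.zero_apply, map_zero]
    show (unitStalk η).symm _ = 0
    rw [map_smul, map_smul]
    exact (congrArg (toK x a • ·) (hsep θ)).trans (smul_zero _)
  rw [hv0, map_zero] at hv'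
  exact sub_eq_zero.mp ((isUnit_of_ne_zero (toK_ne_zero ha)).smul_eq_zero.mp hv'.symm)

/-- A map of generic stalks into a reflexive module preserving codimension one stalks comes from a
morphism. -/
theorem exists_hom_of_codim_one (hX : Pi1.IsNormalScheme X) (F G : X.Modules) (hG : Coh.IsCoh G)
    (hGr : RefHull.IsReflexive G) (T : RefHull.StalkHom F G (genericPoint X))
    (hT : ∀ (y : X), ringKrullDim (X.presheaf.stalk y) = 1 →
      ∀ v : F.presheaf.stalk y, T (toη F y v) ∈ Set.range (toη G y)) :
    ∃ ψ : F ⟶ G, RefHull.stalkMapₗ ψ (genericPoint X) = T :=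
  exists_hom_of_generic (toη_injective_of_isReflexive G hG hGr) T fun x v =>
    mem_range_of_codim_one hX G hG hGr x _ fun y hyx hy => by
      have := hT y hy (sp F hyx v)
      rwa [toη, sp_sp] at this

/-- Reflexive modules matching in codimension one are isomorphic. -/
theorem exists_iso_of_codim_one (hX : Pi1.IsNormalScheme X) (F G : X.Modules) (hF : Coh.IsCoh F)
    (hFr : RefHull.IsReflexive F) (hG : Coh.IsCoh G) (hGr : RefHull.IsReflexive G)
    (T : F.presheaf.stalk (genericPoint X) ≃ₗ[X.presheaf.stalk (genericPoint X)]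
      G.presheaf.stalk (genericPoint X))
    (hT : ∀ (y : X), ringKrullDim (X.presheaf.stalk y) = 1 →
      T '' Set.range (toη F y) = Set.range (toη G y)) :
    Nonempty (F ≅ G) := by
  obtain ⟨ψ, hψ⟩ := exists_hom_of_codim_one hX F G hG hGr T.toLinearMap
    fun y hy v => (hT y hy).le ⟨_, ⟨v, rfl⟩, rfl⟩
  obtain ⟨χ, hχ⟩ := exists_hom_of_codim_one hX G F hF hFr T.symm.toLinearMap fun y hy v => by
    obtain ⟨w, hw, hw'⟩ := (hT y hy).ge ⟨v, rfl⟩
    exact (show T.symm (toη G y v) = w by rw [← hw', T.symm_apply_apply]) ▸ hw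
  refine ⟨⟨ψ, χ, ?_, ?_⟩⟩
  · refine hom_ext_η (toη_injective_of_isReflexive F hF hFr) ?_
    rw [RefFun.stalkMapₗ_comp, hψ, hχ, RefFun.stalkMapₗ_id]
    exact LinearMap.ext T.symm_apply_apply
  · refine hom_ext_η (toη_injective_of_isReflexive G hG hGr) ?_
    rw [RefFun.stalkMapₗ_comp, hψ, hχ, RefFun.stalkMapₗ_id]
    exact LinearMap.ext T.apply_symm_apply

end Groth.Agent.Ref1

end
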