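import Groth.Agent.Ref1.Class
import Mathlib.Algebra.Module.Torsion.Basic

/-!
# The reflexive hull at the generic point and in codimension one
-/

universe u

open CategoryTheory Limits AlgebraicGeometry Opposite TopologicalSpace

noncomputable section

namespace Groth.Agent.Ref1

open Groth.Agent.HomShQC

variable {X : Scheme.{u}} [IsIntegral X] [IsLocallyNoetherian X]

/-- The reflexive hull of a coherent module is coherent reflexive. -/
theorem isReflexive_ddual (H : X.Modules) (hH : Coh.IsCoh H) :
    Coh.IsCoh (RefHull.ddual H) ∧ RefHull.IsReflexive (RefHull.ddual H) := by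
  have hD := isCoh_dual H hH
  have hDD := isCoh_dual _ hD
  refine ⟨hDD, (isReflexive_iff_of_isCoh _ hDD).mpr fun x => ?_⟩
  haveI := finite_stalk H hH.2 x
  haveI := DomMod.finite_dual (R := X.presheaf.stalk x) (H.presheaf.stalk x)
  haveI := DomMod.isReflexive_dual (R := X.presheaf.stalk x)
    (Module.Dual (X.presheaf.stalk x) (H.presheaf.stalk x))
  exact Module.equiv (ddualEquiv H (isFP_of_isCoh H hH) (isFP_of_isCoh _ hD) x).symm

/-- Biduality is bijective at the generic point. -/
theorem bijective_bidual_η (H : X.Modules) (hH : Coh.IsCoh H) :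
    Function.Bijective (RefHull.stalkMapₗ (RefHull.bidualMap H) (genericPoint X)) := by
  haveI : Module.Free (X.presheaf.stalk (genericPoint X)) (H.presheaf.stalk (genericPoint X)) := by
    letI : Field (X.presheaf.stalk (genericPoint X)) := inferInstanceAs (Field X.functionField)
    infer_instance
  exact bijective_bidual_of_free H hH _

/-- Biduality is surjective at DVR points. -/
theorem surjective_bidual_of_dvr (H : X.Modules) (hH : Coh.IsCoh H) (y : X)
    [IsDiscreteValuationRing (X.presheaf.stalk y)] :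
    Function.Surjective (RefHull.stalkMapₗ (RefHull.bidualMap H) y) := by
  haveI := finite_stalk H hH.2 y
  let R := X.presheaf.stalk y
  let Q := H.presheaf.stalk y ⧸ Submodule.torsion R (H.presheaf.stalk y)
  haveI : Module.Free R Q := Module.free_of_finite_type_torsion_free'
  have h := DomMod.surjective_eval_of_free_quotient (Submodule.torsion R (H.presheaf.stalk y)).mkQ
    (Submodule.mkQ_surjective _) fun φ x hx => by
      obtain ⟨c, hc⟩ := (Submodule.Quotient.mk_eq_zero _).mp hx
      have h1 := congrArg φ hc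
      rw [Submonoid.smul_def, map_smul, map_zero, smul_eq_mul] at h1
      exact (mul_eq_zero.mp h1).resolve_left (nonZeroDivisors.ne_zero c.2)
  intro z
  obtain ⟨v, hv⟩ := h (ddualEquiv H (isFP_of_isCoh H hH) (isFP_of_isCoh _ (isCoh_dual H hH)) y z)
  refine ⟨v, (ddualEquiv H (isFP_of_isCoh H hH) (isFP_of_isCoh _ (isCoh_dual H hH)) y).injective ?_⟩
  rw [ddualEquiv_bidual, hv]

/-- The extension criterion of a generic map into a reflexive hull. -/
theorem extends_iff (hX : Pi1.IsNormalScheme X) (F G : X.Modules) (hF : Coh.IsCoh F)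
    (T : RefHull.StalkHom G F (genericPoint X)) :
    (∃ ψ : G ⟶ RefHull.ddual F, RefHull.stalkMapₗ ψ (genericPoint X) =
        (RefHull.stalkMapₗ (RefHull.bidualMap F) (genericPoint X)).comp T) ↔
      ∀ x : X, ringKrullDim (X.presheaf.stalk x) = 1 →
        Set.MapsTo T (Set.range (toη G x)) (Set.range (toη F x)) := by
  obtain ⟨hD, hDr⟩ := isReflexive_ddual F hF
  constructor
  · rintro ⟨ψ, hψ⟩ x hx _ ⟨v, rfl⟩
    obtain ⟨_, hdvr⟩ := VarDim.isDiscreteValuationRing_stalk_of_coheight_eq_one hX x (coheight_eq_one hx)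
    obtain ⟨u, hu⟩ := surjective_bidual_of_dvr F hF x (RefHull.stalkMapₗ ψ x v)
    refine ⟨u, (bijective_bidual_η F hF).1 ?_⟩
    rw [← sp_stalkMap, hu, sp_stalkMap, hψ]
    rfl
  · intro h
    refine exists_hom_of_codim_one hX G _ hD hDr _ fun y hy v => ?_
    obtain ⟨u, hu⟩ := h y hy ⟨v, rfl⟩
    refine ⟨RefHull.stalkMapₗ (RefHull.bidualMap F) y u, ?_⟩
    rw [toη, sp_stalkMap, LinearMap.comp_apply]
    exact congrArg _ hu

end Groth.Agent.Ref1

end
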