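import Groth.Agent.Ref1.Sp
import Groth.Agent.ZClosLib.HeightOneHull
import Groth.Prelude.Def_Pi1
import Mathlib.AlgebraicGeometry.Properties

/-!
# A normal local ring is the intersection of its codimension one local rings
-/

universe u

open CategoryTheory Limits AlgebraicGeometry Opposite TopologicalSpace

noncomputable section

namespace Groth.Agent.Ref1

variable {X : Scheme.{u}} [IsIntegral X]

/-- A rational function regular at every codimension one generalization of a normal point is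
regular at the point. -/
theorem mem_range_toK_of_codim_one [IsLocallyNoetherian X] (hX : Pi1.IsNormalScheme X) (x : X)
    (a : X.presheaf.stalk (genericPoint X))
    (h : ∀ y : X, y ⤳ x → ringKrullDim (X.presheaf.stalk y) = 1 → a ∈ Set.range (toK y)) :
    a ∈ Set.range (toK x) := by
  by_contra hna
  haveI : IsIntegrallyClosed (X.presheaf.stalk x) := (hX x).2
  let R := X.presheaf.stalk x
  let K := X.functionField
  obtain ⟨p, q, hq, hpq⟩ := IsFractionRing.div_surjective (A := R) (a : K)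
  have hq0 : q ≠ 0 := nonZeroDivisors.ne_zero hq
  have hqK : algebraMap R K q ≠ 0 := toK_ne_zero hq0
  have hp : Ideal.Quotient.mk (Ideal.span {q}) p ≠ 0 := by
    intro h0
    obtain ⟨c, hc⟩ := Ideal.mem_span_singleton.mp (Ideal.Quotient.eq_zero_iff_mem.mp h0)
    refine hna ⟨c, ?_⟩
    rw [toK_eq_algebraMap, ← hpq, hc, map_mul, mul_div_cancel_left₀ _ hqK]
  obtain ⟨P, hP, hle⟩ := exists_le_isAssociatedPrime_of_isNoetherianRing R _ hp
  have hP1 := ZClosLib.HeightOneHull.height_eq_one_of_mem_associatedPrimes hq0 hP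
  haveI := hP.isPrime
  obtain ⟨_, ⟨U, hU, rfl⟩, hxU, -⟩ :=
    X.isBasis_affineOpens.exists_subset_of_mem_open (Set.mem_univ x) isOpen_univ
  replace hU : IsAffineOpen U := hU
  letI := X.presheaf.algebra_section_stalk ⟨x, hxU⟩
  haveI := hU.isLocalization_stalk ⟨x, hxU⟩
  set S := (hU.primeIdealOf ⟨x, hxU⟩).asIdeal.primeCompl
  let P₀ : PrimeSpectrum Γ(X, U) := ⟨P.comap (algebraMap Γ(X, U) R), Ideal.IsPrime.comap _⟩
  let y : X := hU.fromSpec P₀
  have hyU : y ∈ U := hU.range_fromSpec.le ⟨P₀, rfl⟩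
  have hyx : y ⤳ x := by
    have hle' : P₀ ≤ hU.primeIdealOf ⟨x, hxU⟩ := fun c hc => by
      by_contra hcn
      exact hP.isPrime.ne_top (Ideal.eq_top_of_isUnit_mem _ hc (IsLocalization.map_units R
        (⟨c, hcn⟩ : S)))
    have := ((PrimeSpectrum.le_iff_specializes _ _).mp hle').map hU.fromSpec.continuous
    rwa [hU.fromSpec_primeIdealOf] at this
  have hyP : hU.primeIdealOf ⟨y, hyU⟩ = P₀ := by
    apply hU.fromSpec.isOpenEmbedding.injective
    exact hU.fromSpec_primeIdealOf ⟨y, hyU⟩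
  have hdim : ringKrullDim (X.presheaf.stalk y) = 1 := by
    letI := X.presheaf.algebra_section_stalk ⟨y, hyU⟩
    haveI := hU.isLocalization_stalk ⟨y, hyU⟩
    rw [IsLocalization.AtPrime.ringKrullDim_eq_height (hU.primeIdealOf ⟨y, hyU⟩).asIdeal
      (X.presheaf.stalk y), hyP]
    change ((P.under Γ(X, U)).height : WithBot ℕ∞) = 1
    rw [IsLocalization.height_under S P, hP1]
    rfl
  obtain ⟨b, hb⟩ := h y hyx hdim
  letI := X.presheaf.algebra_section_stalk ⟨y, hyU⟩
  haveI := hU.isLocalization_stalk ⟨y, hyU⟩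
  obtain ⟨⟨r, s⟩, hrs⟩ := IsLocalization.surj (hU.primeIdealOf ⟨y, hyU⟩).asIdeal.primeCompl b
  have hs : s.1 ∉ P₀.asIdeal := fun hh => s.2 ((congrArg PrimeSpectrum.asIdeal hyP).ge hh)
  refine hs (show algebraMap Γ(X, U) R s.1 ∈ P from hle ?_)
  rw [Submodule.mem_colon_singleton, Submodule.mem_bot]
  change Ideal.Quotient.mk (Ideal.span {q}) (algebraMap Γ(X, U) R s.1 * p) = 0
  rw [Ideal.Quotient.eq_zero_iff_mem, Ideal.mem_span_singleton]
  refine ⟨algebraMap Γ(X, U) R r, toK_injective x ?_⟩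
  have e1 : toK x (algebraMap Γ(X, U) R s.1) = toK y (algebraMap Γ(X, U) (X.presheaf.stalk y) s.1) :=
    (spR_germ (hsp x) hxU s.1).trans (spR_germ (hsp y) hyU s.1).symm
  have e2 : toK x (algebraMap Γ(X, U) R r) = toK y (algebraMap Γ(X, U) (X.presheaf.stalk y) r) :=
    (spR_germ (hsp x) hxU r).trans (spR_germ (hsp y) hyU r).symm
  have e3 : toK x p = toK x q * a := by
    rw [toK_eq_algebraMap, toK_eq_algebraMap, ← hpq]
    exact (mul_div_cancel₀ _ hqK).symm
  rw [map_mul, map_mul, e1, e2, e3, ← hrs, map_mul, hb]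
  ring

end Groth.Agent.Ref1

end
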