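import Groth.Agent.Ref1.DivIdeal
import Groth.Agent.S8923

/-!
# Rational sections and Weil divisors
-/

universe u

open CategoryTheory Limits AlgebraicGeometry Opposite TopologicalSpace
open scoped Topology

noncomputable section

namespace Groth.Agent.Ref1

open Groth.Agent.PullStalk.Sky Groth.Agent.LFFrame

variable {X : Scheme.{u}} [IsIntegral X] [IsLocallyNoetherian X]

/-- A generically invertible module has a frame near the generic point. -/
theorem exists_frame_η (F : X.Modules) (hF : RefHull.GenInvertible F) :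
    ∃ (V : X.Opens) (e : Fin 1 → Γ(F, V)), genericPoint X ∈ V ∧ IsFrame F V e := by
  obtain ⟨V, hVd, hV⟩ := hF
  obtain ⟨x, hx⟩ := hVd.nonempty
  obtain ⟨U', hxU', ⟨φ⟩⟩ := hV ⟨x, hx⟩
  obtain ⟨e, he⟩ := exists_isFrame_of_split (M := F.restrict V.ι) (fun _ : Fin 1 => φ.inv)
    (fun _ => φ.hom) (fun i j => by simp [Subsingleton.elim i j]) (by simp)
  exact ⟨_, _, ((genericPoint_spec X).mem_open_set_iff (V.ι ''ᵁ U').2).mpr
    ⟨x, trivial, ⟨x, hx⟩, hxU', rfl⟩, isFrame_of_restrict he⟩

/-- The orders of a rational section are locally finitely supported. -/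
theorem finite_ordS_ne_zero (F : X.Modules) (hF : RefHull.GenInvertible F)
    {s : F.presheaf.stalk (genericPoint X)} (hs : s ≠ 0) (x : X) :
    ∃ U ∈ 𝓝 x, {y : X | y ∈ U ∧ Order.coheight y = 1 ∧ ordS F y s ≠ 0}.Finite := by
  classical
  have hrk := isRankOne_of_genInvertible F hF
  obtain ⟨V, e, hηV, he⟩ := exists_frame_η F hF
  have hgen : ∀ y (hy : y ∈ V), IsGenAt F y (germM F V y hy (e 0)) := by
    intro y hy
    have hb := he.stalkComb_bijective y hy
    have hbη := he.stalkComb_bijective (genericPoint X) hηV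
    refine ⟨eq_top_iff.mpr fun v _ => ?_, fun h => ?_⟩
    · obtain ⟨a, rfl⟩ := hb.2 v
      refine Submodule.mem_span_singleton.mpr ⟨a 0, ?_⟩
      simp [stalkComb, Fintype.linearCombination_apply]
    · rw [toη, sp_germ] at h
      have h1 := hbη.1 (a₁ := fun _ => (1 : X.presheaf.stalk (genericPoint X))) (a₂ := 0) (by
        rw [map_zero]
        simpa [stalkComb, Fintype.linearCombination_apply] using h)
      exact one_ne_zero (congrFun h1 0)
  obtain ⟨φ, hsφ⟩ := hrk.exists_smul (hgen _ hηV).2 s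
  have hφ : φ ≠ 0 := fun h => hs (by rw [hsφ, h, zero_smul])
  obtain ⟨_, ⟨U, hU, rfl⟩, hxU, -⟩ :=
    X.isBasis_affineOpens.exists_subset_of_mem_open (Set.mem_univ x) isOpen_univ
  replace hU : IsAffineOpen U := hU
  haveI : Nonempty U := ⟨⟨x, hxU⟩⟩
  haveI : IsNoetherianRing Γ(X, U) := IsLocallyNoetherian.component_noetherian ⟨U, hU⟩
  haveI := functionField_isFractionRing_of_isAffineOpen X U hU
  obtain ⟨a, b, hb, hab⟩ := IsFractionRing.div_surjective (A := Γ(X, U)) (φ : X.functionField)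
  have hb0 : b ≠ 0 := nonZeroDivisors.ne_zero hb
  have ha0 : a ≠ 0 := fun h => hφ (by rw [h, map_zero, zero_div] at hab; exact hab.symm)
  have hne : ∀ c : Γ(X, U), c ≠ 0 → genericPoint X ∈ X.basicOpen c := fun c hc =>
    ((genericPoint_spec X).mem_open_set_iff (X.basicOpen c).isOpen).mpr (by
      rw [Set.univ_inter, Set.nonempty_iff_ne_empty]
      exact fun h => hc ((basicOpen_eq_bot_iff c).mp (TopologicalSpace.Opens.ext h)))
  let P : X → Prop := fun y => Order.coheight y = 1 ∧ ordS F y s ≠ 0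
  have hfin := S8923.finite_codim_one U hU (V ⊓ (X.basicOpen a ⊓ X.basicOpen b))
    ⟨hηV, hne a ha0, hne b hb0⟩ P (fun y h => h.1) fun y hy hB => hy.2 (by
      obtain ⟨hyV, hya, hyb⟩ := hB
      have hyU : y ∈ U := X.basicOpen_le a hya
      have hau := (Scheme.mem_basicOpen X a y hyU).mp hya
      have hbu := (Scheme.mem_basicOpen X b y hyU).mp hyb
      have hgerm : ∀ c : Γ(X, U), toK y (X.presheaf.germ U y hyU c) = algebraMap Γ(X, U) X.functionField c :=
        fun c => spR_germ (hsp y) hyU c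
      have hs' : s = φ • toη F y (germM F V y hyV (e 0)) := by
        rw [hsφ, toη, toη, sp_germ, sp_germ]
      rw [hs', ordS_eq hrk hy.1 (hgen y hyV) hφ]
      have hbK : (algebraMap Γ(X, U) X.functionField b) ≠ 0 := by
        rw [← hgerm]
        exact toK_ne_zero hbu.ne_zero
      have hφb : φ * toK y (X.presheaf.germ U y hyU b) = toK y (X.presheaf.germ U y hyU a) := by
        rw [hgerm, hgerm, ← hab]
        exact div_mul_cancel₀ _ hbK
      have h := ord_mul' (y := y) hφ (toK_ne_zero hbu.ne_zero)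
      rw [hφb, ord_toK_of_isUnit hy.1 hau, ord_toK_of_isUnit hy.1 hbu] at h
      omega)
  refine ⟨U, U.2.mem_nhds hxU, (hfin.image Subtype.val).subset fun y hy => ?_⟩
  exact ⟨⟨y, hy.2⟩, ⟨y, subset_closure rfl, hy.1⟩, rfl⟩

/-- Every divisor is the divisor of a rational section of a rank one reflexive module. -/
theorem exists_ref1_of_divisor (hX : Pi1.IsNormalScheme X) (D : X → ℤ) (hD : LocallyFiniteSupport D)
    (hD1 : ∀ x, Order.coheight x ≠ 1 → D x = 0) :
    ∃ (F : X.Modules) (_ : RefHull.IsRef1 F) (s : F.presheaf.stalk (genericPoint X)), s ≠ 0 ∧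
      ∀ y : X, Order.coheight y = 1 → ordS F y s = D y := by
  have hlf : ∀ g : ℤ → ℕ, g 0 = 0 → LocallyFiniteSupport (fun x => g (D x)) := fun g hg z => by
    obtain ⟨t, ht, hfin⟩ := hD z
    refine ⟨t, ht, hfin.subset (Set.inter_subset_inter_right _ fun x hx => ?_)⟩
    exact fun h0 => hx (by show g (D x) = 0; rw [h0, hg])
  obtain ⟨P, hP, p, hp, ep⟩ := exists_ref1_neg hX (fun x => (D x).toNat) (hlf Int.toNat rfl)
    fun y hy => by simp [hD1 y hy]
  obtain ⟨N, hN, q, hq, eq⟩ := exists_ref1_neg hX (fun x => (-D x).toNat)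
    (hlf (fun z => (-z).toNat) rfl) fun y hy => by simp [hD1 y hy]
  obtain ⟨w, hw, ew⟩ := exists_dualSec hX hP hp
  obtain ⟨hR, hne, e⟩ := tensorSec_spec hX (isRef1_dual hP) hN hw hq
  refine ⟨_, hR, _, hne, fun y hy => ?_⟩
  rw [e y hy, ew y hy, ep y hy, eq y hy]
  omega

end Groth.Agent.Ref1

end
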