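import Groth.Agent.Ref1.Class
import Groth.Agent.Props.SubSheaf
import Groth.Agent.WeakAssSch.Unit
import Groth.Agent.CycLib.DivFun
import Mathlib.Topology.LocallyFinsupp

/-!
# The ideal sheaf of an effective Weil divisor
-/

universe u

open CategoryTheory Limits AlgebraicGeometry Opposite TopologicalSpace

noncomputable section

namespace Groth.Agent.Ref1

open Groth.Agent.PullStalk.Sky Groth.Agent.HomShQC Groth.Agent.Props.SubMod Groth.Agent.Props.SubSheaf

variable {X : Scheme.{u}}

/-- The stalk ideals of a nonnegative divisor. -/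
def divStalk (n : X → ℕ) (x : X) : Ideal (X.presheaf.stalk x) :=
  ⨅ (y : X) (h : y ⤳ x), (IsLocalRing.maximalIdeal (X.presheaf.stalk y) ^ n y).comap (spR h)

lemma mem_divStalk {n : X → ℕ} {x : X} {a : X.presheaf.stalk x} :
    a ∈ divStalk n x ↔ ∀ (y : X) (h : y ⤳ x), spR h a ∈ IsLocalRing.maximalIdeal (X.presheaf.stalk y) ^ n y := by
  simp only [divStalk, Submodule.mem_iInf, Ideal.mem_comap]

/-- The family of submodules of the stalks of the structure module. -/
def divSub (n : X → ℕ) : StalkSub (Coh.structureModule X) :=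
  fun x => Submodule.map (unitStalk x).toLinearMap (divStalk n x)

lemma unitStalk_mem_divSub {n : X → ℕ} {x : X} {a : X.presheaf.stalk x} :
    unitStalk x a ∈ divSub n x ↔ a ∈ divStalk n x := by
  refine ⟨?_, fun h => ⟨a, h, rfl⟩⟩
  rintro ⟨b, hb, hba⟩
  exact (unitStalk x).injective hba ▸ hb

/-- The ideal sheaf of a nonnegative divisor with locally finite support is of finite type. -/
theorem ftOn_divSub [IsLocallyNoetherian X] (n : X → ℕ) (hn : LocallyFiniteSupport n) :
    FTOn (divSub n) ⊤ := by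
  classical
  intro x _
  obtain ⟨_, ⟨V, hV, rfl⟩, hxV, -⟩ :=
    X.isBasis_affineOpens.exists_subset_of_mem_open (Set.mem_univ x) isOpen_univ
  replace hV : IsAffineOpen V := hV
  haveI : IsNoetherianRing Γ(X, V) := IsLocallyNoetherian.component_noetherian ⟨V, hV⟩
  have hfin := LocallyFiniteSupport.finite_inter_support_of_isCompact hn hV.isCompact
  let I : Ideal Γ(X, V) := ⨅ (y : X) (hy : y ∈ V),
    (IsLocalRing.maximalIdeal (X.presheaf.stalk y) ^ n y).comap (X.presheaf.germ V y hy).hom
  have hI : ∀ a, a ∈ I ↔ ∀ (y : X) (hy : y ∈ V),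
      X.presheaf.germ V y hy a ∈ IsLocalRing.maximalIdeal (X.presheaf.stalk y) ^ n y := fun a => by
    simp only [I, Submodule.mem_iInf, Ideal.mem_comap]
  obtain ⟨T, hT⟩ := (IsNoetherian.noetherian I : I.FG)
  refine ⟨V, hV, hxV, le_top, T, fun z hz => le_antisymm ?_ (Submodule.span_le.mpr ?_)⟩
  · rintro _ ⟨a, ha, rfl⟩
    rw [SetLike.mem_coe, mem_divStalk] at ha
    letI := X.presheaf.algebra_section_stalk ⟨z, hz⟩
    haveI := hV.isLocalization_stalk ⟨z, hz⟩
    obtain ⟨⟨r, c⟩, hrc⟩ := IsLocalization.surj (hV.primeIdealOf ⟨z, hz⟩).asIdeal.primeCompl a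
    have hrc' : a * X.presheaf.germ V z hz c.1 = X.presheaf.germ V z hz r := hrc
    have hg : ∀ y ∈ hfin.toFinset.filter (fun y => ¬ y ⤳ z), ∃ g : Γ(X, V),
        g ∉ (hV.primeIdealOf ⟨z, hz⟩).asIdeal ∧
          ∀ hy : y ∈ V, X.presheaf.germ V y hy g ∈ IsLocalRing.maximalIdeal (X.presheaf.stalk y) := by
      intro y hy
      rw [Finset.mem_filter, Set.Finite.mem_toFinset] at hy
      have hyV : y ∈ V := hy.1.1
      have hnle : ¬ (hV.primeIdealOf ⟨y, hyV⟩).asIdeal ≤ (hV.primeIdealOf ⟨z, hz⟩).asIdeal := fun hle =>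
        hy.2 (by
          have := ((PrimeSpectrum.le_iff_specializes _ _).mp
            (show hV.primeIdealOf ⟨y, hyV⟩ ≤ hV.primeIdealOf ⟨z, hz⟩ from hle)).map hV.fromSpec.continuous
          rwa [hV.fromSpec_primeIdealOf, hV.fromSpec_primeIdealOf] at this)
      obtain ⟨g, hg1, hg2⟩ := SetLike.not_le_iff_exists.mp hnle
      refine ⟨g, hg2, fun hy' => ?_⟩
      letI := X.presheaf.algebra_section_stalk ⟨y, hy'⟩
      haveI := hV.isLocalization_stalk ⟨y, hy'⟩
      exact (IsLocalization.AtPrime.to_map_mem_maximal_iff (X.presheaf.stalk y)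
        (hV.primeIdealOf ⟨y, hy'⟩).asIdeal g).mpr hg1
    choose! g hg1 hg2 using hg
    let u : Γ(X, V) := ∏ y ∈ hfin.toFinset.filter (fun y => ¬ y ⤳ z), g y ^ n y
    have hu : u ∈ (hV.primeIdealOf ⟨z, hz⟩).asIdeal.primeCompl :=
      Submonoid.prod_mem _ fun y hy => pow_mem (show g y ∈ (hV.primeIdealOf ⟨z, hz⟩).asIdeal.primeCompl from hg1 y hy) _
    have hur : u * r ∈ I := by
      rw [hI]
      intro y hy
      rw [map_mul]
      by_cases hyz : y ⤳ z
      · refine Ideal.mul_mem_left _ _ ?_
        rw [← spR_germ hyz hz, ← hrc', map_mul]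
        exact Ideal.mul_mem_right _ _ (ha y hyz)
      · by_cases hny : n y = 0
        · rw [hny, pow_zero, Ideal.one_eq_top]
          trivial
        · have hmem : y ∈ hfin.toFinset.filter (fun y => ¬ y ⤳ z) := by
            rw [Finset.mem_filter, Set.Finite.mem_toFinset]
            exact ⟨⟨hy, hny⟩, hyz⟩
          refine Ideal.mul_mem_right _ _ ?_
          rw [show u = g y ^ n y * _ from (Finset.mul_prod_erase _ _ hmem).symm, map_mul, map_pow]
          exact Ideal.mul_mem_right _ _ (Ideal.pow_mem_pow (hg2 y hmem hy) _)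
    have hmem := germ_mem_spanGerm_of_mem_span (M := Coh.structureModule X) (s := (T : Set Γ(X, V)))
      (show (u * r : Γ(X, V)) ∈ Submodule.span Γ(X, V) (T : Set Γ(X, V)) from hT ▸ hur) z hz
    have he : germM (Coh.structureModule X) V z hz (u * r : Γ(X, V)) =
        (X.presheaf.germ V z hz u * X.presheaf.germ V z hz c.1) • unitStalk z a := by
      refine (unitStalk_germ (U := V) z hz (u * r)).symm.trans ?_
      rw [← map_smul, smul_eq_mul, map_mul, ← hrc', mul_assoc, mul_comm a]
    rw [he] at hmem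
    have hUu : IsUnit (X.presheaf.germ V z hz u * X.presheaf.germ V z hz c.1) :=
      (IsLocalization.map_units (X.presheaf.stalk z) (⟨u, hu⟩ : (hV.primeIdealOf ⟨z, hz⟩).asIdeal.primeCompl)).mul
        (IsLocalization.map_units (X.presheaf.stalk z) c)
    exact (Submodule.smul_mem_iff_of_isUnit _ hUu).mp hmem
  · rintro _ ⟨t, ht, rfl⟩
    have htI : t ∈ I := hT ▸ Submodule.subset_span ht
    show germM (Coh.structureModule X) V z hz t ∈ divSub n z
    rw [show germM (Coh.structureModule X) V z hz t = unitStalk z (X.presheaf.germ V z hz t) from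
      (unitStalk_germ (U := V) z hz t).symm, unitStalk_mem_divSub, mem_divStalk]
    intro y h
    rw [spR_germ]
    exact (hI t).mp htI y _

/-- The stalks of a subsheaf. -/
theorem range_incl_stalk {M : X.Modules} [M.IsQuasicoherent] {S : StalkSub M} (hS : FTOn S ⊤) (x : X) :
    LinearMap.range (RefHull.stalkMapₗ (incl S) x) = S x := by
  refine le_antisymm ?_ ?_
  · rintro _ ⟨v, rfl⟩
    obtain ⟨U, hU, m, rfl⟩ := exists_germM_eq (sub S) x v
    rw [RefHull.stalkMapₗ_germ]
    exact (mem_range_incl S _).mp ⟨m, rfl⟩ x hU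
  · obtain ⟨V, hV, hxV, -, T, hT⟩ := hS x trivial
    rw [hT x hxV]
    refine Submodule.span_le.mpr ?_
    rintro _ ⟨t, ht, rfl⟩
    obtain ⟨a, ha⟩ := (mem_range_incl S t).mpr fun y hy => by
      rw [hT y hy]; exact Submodule.subset_span ⟨t, ht, rfl⟩
    refine ⟨germM (sub S) V x hxV a, ?_⟩
    rw [RefHull.stalkMapₗ_germ, ha]

variable [IsIntegral X] [IsLocallyNoetherian X]

/-- The reflexive module of minus a nonnegative divisor. -/
theorem exists_ref1_neg (hX : Pi1.IsNormalScheme X) (n : X → ℕ) (hn : LocallyFiniteSupport n)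
    (hn1 : ∀ y, Order.coheight y ≠ 1 → n y = 0) :
    ∃ (F : X.Modules) (_ : RefHull.IsRef1 F) (s : F.presheaf.stalk (genericPoint X)), s ≠ 0 ∧
      ∀ y : X, Order.coheight y = 1 → ordS F y s = -(n y : ℤ) := by
  haveI : (Coh.structureModule X).IsQuasicoherent := WeakAssSch.isQuasicoherent_unit X
  have hS := ftOn_divSub n hn
  let M := sub (divSub n)
  let ι := incl (divSub n)
  have hM : Coh.IsCoh M := ⟨isQuasicoherent_sub hS, isFiniteType_sub hS⟩
  have hinj : ∀ x, Function.Injective (RefHull.stalkMapₗ ι x) := fun x =>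
    Omega.Stalks.stalkLin_injective_of_mono ι x
  have hmax : ∀ y : X, y ⤳ genericPoint X → n y = 0 := fun y h => hn1 y (by
    have : y = genericPoint X := ((hsp y).antisymm h).eq.symm
    rw [this]
    have h0 : IsMax (genericPoint X) := fun z _ => Scheme.le_iff_specializes.mpr (hsp z)
    rw [Order.coheight_eq_zero.mpr h0]
    norm_num)
  obtain ⟨u, hu⟩ : unitStalk (genericPoint X) 1 ∈
      LinearMap.range (RefHull.stalkMapₗ ι (genericPoint X)) := by
    rw [range_incl_stalk hS, unitStalk_mem_divSub, mem_divStalk]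
    intro y h
    rw [hmax y h, pow_zero, Ideal.one_eq_top]
    trivial
  have hrk : IsRankOne M := by
    refine ⟨LinearEquiv.ofBijective (LinearMap.toSpanSingleton _ _ u) ⟨?_, fun v => ?_⟩⟩
    · rw [injective_iff_map_eq_zero]
      intro a ha
      have h2 := congrArg (RefHull.stalkMapₗ ι (genericPoint X)) ha
      rw [LinearMap.toSpanSingleton_apply, map_smul, hu, map_zero, ← map_smul, smul_eq_mul, mul_one,
        LinearEquiv.map_eq_zero_iff] at h2
      exact h2
    · refine ⟨(unitStalk (genericPoint X)).symm (RefHull.stalkMapₗ ι (genericPoint X) v), hinj _ ?_⟩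
      rw [LinearMap.toSpanSingleton_apply, map_smul, hu, ← map_smul, smul_eq_mul, mul_one,
        LinearEquiv.apply_symm_apply]
  have hR := isRef1_ddual M hM hrk
  obtain ⟨e⟩ := id hrk
  haveI := Module.Free.of_equiv e
  have hη := bijective_bidual_of_free M hM (genericPoint X)
  have hu0 : u ≠ 0 := fun h => one_ne_zero ((unitStalk (genericPoint X)).injective
    (hu.symm.trans (by rw [h, map_zero, map_zero])))
  refine ⟨_, hR, RefHull.stalkMapₗ (RefHull.bidualMap M) (genericPoint X) u,
    fun h => hu0 (hη.1 (h.trans (map_zero _).symm)), fun y hy => ?_⟩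
  obtain ⟨_, hdvr⟩ := VarDim.isDiscreteValuationRing_stalk_of_coheight_eq_one hX y hy
  obtain ⟨π, hπ⟩ := IsDiscreteValuationRing.exists_irreducible (X.presheaf.stalk y)
  have hJ : divStalk n y = Ideal.span {π ^ n y} := by
    rw [← Ideal.span_singleton_pow, ← hπ.maximalIdeal_eq]
    refine le_antisymm (fun a ha => ?_) (fun a ha => mem_divStalk.mpr fun z h => ?_)
    · have := mem_divStalk.mp ha y specializes_rfl
      have hid : spR (specializes_rfl : y ⤳ y) a = a := by
        obtain ⟨W, hW, r, rfl⟩ := X.presheaf.exists_germ_eq (x := y) a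
        exact spR_germ _ hW r
      rwa [hid] at this
    · by_cases hnz : n z = 0
      · rw [hnz, pow_zero, Ideal.one_eq_top]
        trivial
      · have hzy : z = y := by
          by_contra hne
          have hlt : y < z := by
            refine lt_of_le_not_ge (Scheme.le_iff_specializes.mpr h) fun hle => hne ?_
            exact (h.antisymm (Scheme.le_iff_specializes.mp hle)).eq
          have h1 := Order.coheight_add_one_le hlt
          rw [hy, of_not_not fun hc => hnz (hn1 z hc)] at h1
          exact absurd h1 (by norm_num)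
        subst hzy
        have hid : spR h a = a := by
          obtain ⟨W, hW, r, rfl⟩ := X.presheaf.exists_germ_eq (x := z) a
          exact spR_germ _ hW r
        rw [hid]
        exact ha
  have hπn : π ^ n y ≠ 0 := pow_ne_zero _ hπ.ne_zero
  obtain ⟨g, hg⟩ : unitStalk y (π ^ n y) ∈ LinearMap.range (RefHull.stalkMapₗ ι y) := by
    rw [range_incl_stalk hS, unitStalk_mem_divSub, hJ]
    exact Ideal.mem_span_singleton_self _
  have hgη : toη M y g = toK y (π ^ n y) • u := by
    refine hinj _ ?_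
    rw [toη, ← sp_stalkMap, hg, sp_unitStalk, map_smul, hu, ← map_smul, smul_eq_mul, mul_one]
  have hgen : IsGenAt M y g := by
    refine ⟨eq_top_iff.mpr fun v _ => ?_, ?_⟩
    · have hv : RefHull.stalkMapₗ ι y v ∈ divSub n y := by
        rw [← range_incl_stalk hS]
        exact ⟨v, rfl⟩
      obtain ⟨b, hb, hbv⟩ := hv
      rw [hJ, SetLike.mem_coe, Ideal.mem_span_singleton] at hb
      obtain ⟨c, rfl⟩ := hb
      refine Submodule.mem_span_singleton.mpr ⟨c, hinj y ?_⟩
      rw [map_smul, hg, ← map_smul, smul_eq_mul, mul_comm]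
      exact hbv
    · rw [hgη]
      exact fun h => hu0 ((isUnit_of_ne_zero (toK_ne_zero hπn)).smul_eq_zero.mp h)
  haveI := hgen.free hrk
  have hb := bijective_bidual_of_free M hM y
  have hg' := hgen.stalkMap (RefHull.bidualMap M) hb.2 hη.1
  have hku : IsUnit (toK y (π ^ n y)) := isUnit_of_ne_zero (toK_ne_zero hπn)
  have hw : RefHull.stalkMapₗ (RefHull.bidualMap M) (genericPoint X) u =
      (↑hku.unit⁻¹ : X.presheaf.stalk (genericPoint X)) •
        toη (RefHull.ddual M) y (RefHull.stalkMapₗ (RefHull.bidualMap M) y g) := by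
    rw [toη, sp_stalkMap, show sp M (hsp y) g = _ from hgη, map_smul, smul_smul, IsUnit.val_inv_mul, one_smul]
  rw [hw, ordS_eq (rankOne_of_isRef1 hR) hy hg' (hku.unit⁻¹).isUnit.ne_zero]
  have h3 := ord_mul' (y := y) (toK_ne_zero hπn) (hku.unit⁻¹).isUnit.ne_zero
  rw [IsUnit.mul_val_inv, ← map_one (toK y), ord_toK_of_isUnit hy isUnit_one, ord_toK hy hπn,
    Ring.ord_pow (mem_nonZeroDivisors_iff_ne_zero.mpr hπ.ne_zero), Ring.ord_of_irreducible hπ,
    nsmul_one] at h3
  simp only [ENat.toNat_natCast] at h3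
  omega

end Groth.Agent.Ref1

end
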