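import Groth.Agent.Ref1.Hull
import Groth.Agent.Ref1.Cycle
import Groth.Prelude.Def_RefPow

/-!
# Reflexive powers of a rank one reflexive module and a section
-/

universe u

open CategoryTheory Limits AlgebraicGeometry Opposite TopologicalSpace
open scoped TensorProduct

noncomputable section

namespace Groth.Agent.Ref1

open Groth.Agent.PullStalk.Sky Groth.Agent.HomShQC Groth.Agent.KFlat.StalkTensor

variable {X : Scheme.{u}}

lemma val_germ {M : X.Modules} (s : Coh.structureModule X ⟶ M) {W : X.Opens} (x : X) (hx : x ∈ W) :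
    germM M W x hx (SecTwist.val s W) = RefHull.stalkMapₗ s x (unitStalk x 1) := by
  rw [← map_one (X.presheaf.germ W x hx).hom, unitStalk_germ]
  exact (RefHull.stalkMapₗ_germ s x hx _).symm

lemma tmul_eq (M N : X.Modules) (U : X.Opens) (m : Γ(M, U)) (n : Γ(N, U)) :
    (show Γ(tensM M N, U) from SecTwist.tmul M N U m n) = tmulSec U m n := rfl

/-- The germ at `x` of the section. -/
abbrev σ {F : X.Modules} (s : Coh.structureModule X ⟶ F) (n : ℕ) (x : X) :
    (RefPow.refPow F n).presheaf.stalk x :=
  RefHull.stalkMapₗ (RefPow.sPow s n) x (unitStalk x 1)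

/-- Stalks of multiplication by a section in positive degrees. -/
lemma mulBy_stalk {F : X.Modules} (s : Coh.structureModule X ⟶ F) (n : ℕ) (x : X)
    (v : (RefPow.refPow F (n + 1)).presheaf.stalk x) :
    RefHull.stalkMapₗ (RefPow.mulBy s (n + 1)) x v =
      RefHull.stalkMapₗ (RefHull.bidualMap (CohB1.tensorMod (RefPow.refPow F (n + 1)) F)) x
        (tfrom (RefPow.refPow F (n + 1)) F x (v ⊗ₜ RefHull.stalkMapₗ s x (unitStalk x 1))) := by
  obtain ⟨W, hW, t, rfl⟩ := exists_germM_eq _ x v
  rw [RefHull.stalkMapₗ_germ, ← val_germ s x hW, RefPow.mulBy_succ_app]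
  refine (RefHull.stalkMapₗ_germ (RefHull.bidualMap (CohB1.tensorMod (RefPow.refPow F (n + 1)) F)) x hW _).symm.trans ?_
  refine congrArg (RefHull.stalkMapₗ (RefHull.bidualMap (CohB1.tensorMod (RefPow.refPow F (n + 1)) F)) x) ?_
  exact (fromTensor_germ (M := RefPow.refPow F (n + 1)) (N := F) W hW t (SecTwist.val s W)).symm

lemma σ_succ {F : X.Modules} (s : Coh.structureModule X ⟶ F) (n : ℕ) (x : X) :
    σ s (n + 1) x = RefHull.stalkMapₗ (RefPow.mulBy s n) x (σ s n x) := by
  rw [σ, RefPow.sPow_succ, RefFun.stalkMapₗ_comp, LinearMap.comp_apply]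

lemma σ_one {F : X.Modules} (s : Coh.structureModule X ⟶ F) (x : X) :
    σ s 1 x = RefHull.stalkMapₗ s x (unitStalk x 1) := by
  exact congrArg (fun φ => RefHull.stalkMapₗ φ x (unitStalk x 1)) (RefPow.sPow_one s)

lemma σ_zero {F : X.Modules} (s : Coh.structureModule X ⟶ F) (x : X) :
    σ s 0 x = unitStalk x 1 :=
  LinearMap.congr_fun (RefFun.stalkMapₗ_id (Coh.structureModule X) x) _

variable [IsIntegral X]

lemma toη_σ {F : X.Modules} (s : Coh.structureModule X ⟶ F) (n : ℕ) (x : X) :
    toη (RefPow.refPow F n) x (σ s n x) = σ s n (genericPoint X) := by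
  rw [toη, σ, sp_stalkMap, sp_unitStalk, map_one (spR (hsp x))]

lemma toη_sPow {F : X.Modules} (s : Coh.structureModule X ⟶ F) (n : ℕ) (x : X) (b : X.presheaf.stalk x) :
    RefHull.stalkMapₗ (RefPow.sPow s n) x (unitStalk x b) = b • σ s n x := by
  rw [σ, ← map_smul, ← map_smul, smul_eq_mul, mul_one]

variable [IsLocallyNoetherian X]

/-- The order at a point of a nonzero section. -/
abbrev dOrd {F : X.Modules} (s : Coh.structureModule X ⟶ F) (y : X) : ℤ :=
  ordS (RefPow.refPow F 1) y (σ s 1 (genericPoint X))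

variable (hX : Pi1.IsNormalScheme X) {F : X.Modules} (hF : RefHull.IsRef1 F)
  (s : Coh.structureModule X ⟶ F) (hs : σ s 1 (genericPoint X) ≠ 0)

include hX hF hs in
/-- Reflexive powers are rank one reflexive, with divisor the multiple. -/
theorem refPow_spec (n : ℕ) :
    RefHull.IsRef1 (RefPow.refPow F n) ∧ σ s n (genericPoint X) ≠ 0 ∧
      ∀ y, Order.coheight y = 1 → ordS (RefPow.refPow F n) y (σ s n (genericPoint X)) = n * dOrd s y := by
  have h0 : σ s 0 (genericPoint X) = unitStalk (genericPoint X) 1 := σ_zero s _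
  induction n with
  | zero =>
    refine ⟨isRef1_structureModule, ?_, fun y hy => ?_⟩
    · rw [h0]
      exact fun h => one_ne_zero ((unitStalk (genericPoint X)).injective (h.trans (map_zero _).symm))
    · rw [h0, Nat.cast_zero, zero_mul]
      exact ordS_one hy
  | succ n ih =>
    match n, ih with
    | 0, _ => exact ⟨hF, hs, fun y _ => ((one_mul _).symm.trans (by norm_num))⟩
    | m + 1, ih =>
      obtain ⟨h1, h2, h3⟩ := ih
      have hs' : RefHull.stalkMapₗ s (genericPoint X) (unitStalk (genericPoint X) 1) ≠ 0 := by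
        rw [← σ_one]; exact hs
      obtain ⟨hR, hne, he⟩ := tensorSec_spec hX h1 hF h2 hs'
      have hσ : σ s (m + 2) (genericPoint X) =
          tensorSec (RefPow.refPow F (m + 1)) F (σ s (m + 1) (genericPoint X))
            (RefHull.stalkMapₗ s (genericPoint X) (unitStalk (genericPoint X) 1)) := by
        rw [σ_succ, mulBy_stalk]
        rfl
      refine ⟨hR, hσ ▸ hne, fun y hy => ?_⟩
      have hd : dOrd s y = ordS F y (RefHull.stalkMapₗ s (genericPoint X) (unitStalk (genericPoint X) 1)) := by
        rw [← σ_one]; rfl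
      rw [hσ]
      refine (he y hy).trans ?_
      rw [h3 y hy, ← hd]
      push_cast
      ring

include hX hF hs in
lemma rankOne_refPow (n : ℕ) : IsRankOne (RefPow.refPow F n) :=
  rankOne_of_isRef1 (refPow_spec hX hF s hs n).1

include hX hF hs in
/-- Membership of a multiple of the section in a stalk. -/
theorem smul_σ_mem_range_iff (n : ℕ) (x : X) (a : X.presheaf.stalk (genericPoint X)) :
    a • σ s n (genericPoint X) ∈ Set.range (toη (RefPow.refPow F n) x) ↔
      a = 0 ∨ ∀ y : X, y ⤳ x → Order.coheight y = 1 → 0 ≤ Scheme.ord a y + n * dOrd s y := by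
  obtain ⟨hR, hne, he⟩ := refPow_spec hX hF s hs n
  constructor
  · rintro ⟨v, hv⟩
    refine or_iff_not_imp_left.mpr fun ha y hyx hy => ?_
    obtain ⟨e, φ, hge, hφ, hσφ, e1⟩ := exists_coord hX hR hy hne
    obtain ⟨b, hb⟩ := hge.exists_eq (sp (RefPow.refPow F n) hyx v)
    have h2 : toK y b • toη (RefPow.refPow F n) y e = (a * φ) • toη (RefPow.refPow F n) y e := by
      rw [toη, ← sp_smul, hb, sp_sp, mul_smul, ← hσφ]
      exact hv
    have hab : toK y b = a * φ := by
      refine sub_eq_zero.mp ((rankOne_of_isRef1 hR).eq_zero_or _ _ (?_ : (toK y b - a * φ) • toη (RefPow.refPow F n) y e = 0) |>.resolve_right hge.2)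
      rw [sub_smul, h2, sub_self]
    have hb0 : b ≠ 0 := fun h => mul_ne_zero ha hφ (by rw [← hab, h, map_zero])
    rw [← he y hy, e1, ← ord_mul' ha hφ, ← hab, ord_toK hy hb0]
    exact Int.natCast_nonneg _
  · intro h
    by_cases ha : a = 0
    · exact ⟨0, by rw [map_zero, ha, zero_smul]⟩
    refine mem_range_of_codim_one hX _ hR.1 hR.2.1 x _ fun y hyx hy => ?_
    have hy' := coheight_eq_one hy
    obtain ⟨_, hdvr⟩ := VarDim.isDiscreteValuationRing_stalk_of_coheight_eq_one hX y hy'
    obtain ⟨e, φ, hge, hφ, hσφ, e1⟩ := exists_coord hX hR hy' hne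
    have h0 := (h.resolve_left ha) y hyx hy'
    rw [← he y hy', e1, ← ord_mul' ha hφ] at h0
    obtain ⟨c, hc⟩ : (a * φ) ∈ Set.range (toK y) := by
      rcases ValuationRing.isInteger_or_isInteger (X.presheaf.stalk y) (a * φ : X.functionField) with
        ⟨c, hc⟩ | ⟨c, hc⟩
      · exact ⟨c, hc⟩
      · have hne' : (a * φ : X.functionField) ≠ 0 := mul_ne_zero ha hφ
        have hc0 : c ≠ 0 := by rintro rfl; exact inv_ne_zero hne' (by rw [← hc, map_zero])
        have h1 : Scheme.ord (toK y c) y = - Scheme.ord (a * φ) y := by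
          rw [toK_eq_algebraMap, hc]; exact ord_inv' hne'
        have h2 : 0 ≤ Scheme.ord (toK y c) y := by rw [ord_toK hy' hc0]; exact Int.natCast_nonneg _
        obtain ⟨u, -, hu⟩ := exists_unit_of_ord_eq_zero hy' hne' (by omega)
        exact ⟨u, hu⟩
    exact ⟨c • e, by rw [toη, sp_smul, hσφ, smul_smul]; exact congrArg (· • _) hc⟩

include hX hF hs in
lemma dOrd_nonneg {y : X} (hy : Order.coheight y = 1) : 0 ≤ dOrd s y := by
  have h := (smul_σ_mem_range_iff hX hF s hs 1 y 1).mp ⟨σ s 1 y, by rw [toη_σ, one_smul]⟩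
  have h2 := (h.resolve_left one_ne_zero) y specializes_rfl hy
  rw [← map_one (toK y), ord_toK_of_isUnit hy isUnit_one] at h2
  simpa using h2

lemma bijective_sPow_of (hd : ∀ n, IsRankOne (RefPow.refPow F n) ∧ σ s n (genericPoint X) ≠ 0)
    (n : ℕ) (z : X) (hinj : Function.Injective (toη (RefPow.refPow F n) z))
    (h : ∀ a, a • σ s n (genericPoint X) ∈ Set.range (toη (RefPow.refPow F n) z) → a ∈ Set.range (toK z)) :
    Function.Bijective (RefHull.stalkMapₗ (RefPow.sPow s n) z) := by
  obtain ⟨hrk, hne⟩ := hd n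
  constructor
  · rw [injective_iff_map_eq_zero]
    intro t ht
    obtain ⟨b, rfl⟩ := (unitStalk z).surjective t
    rw [toη_sPow] at ht
    have h2 := congrArg (toη (RefPow.refPow F n) z) ht
    rw [toη, sp_smul, show sp (RefPow.refPow F n) (hsp z) (σ s n z) = _ from toη_σ s n z, map_zero] at h2
    have h3 := (hrk.eq_zero_or _ _ h2).resolve_right hne
    rw [toK_injective z (h3.trans (map_zero _).symm), map_zero]
  · intro v
    obtain ⟨a, ha⟩ := hrk.exists_smul hne (toη (RefPow.refPow F n) z v)
    obtain ⟨b, hb⟩ := h a ⟨v, ha⟩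
    refine ⟨unitStalk z b, hinj ?_⟩
    rw [toη_sPow, toη, sp_smul, show sp (RefPow.refPow F n) (hsp z) (σ s n z) = _ from toη_σ s n z]
    exact (congrArg (· • _) hb).trans ha.symm

include hX hF hs in
/-- Where the section generates. -/
theorem mem_isoLocus_iff_dOrd (z : X) :
    z ∈ RefPow.isoLocus s ↔ ∀ y : X, y ⤳ z → Order.coheight y = 1 → dOrd s y = 0 := by
  constructor
  · intro hz y hyz hy
    haveI := hF.1.1
    haveI : (Coh.structureModule X).IsQuasicoherent := (isCoh_structureModule (X := X)).1
    have hb := bijective_stalkMap_of_specializes s hyz hz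
    have hg : IsGenAt (RefPow.refPow F 1) y (σ s 1 y) := by
      refine ⟨eq_top_iff.mpr fun v _ => ?_, by rw [toη_σ]; exact hs⟩
      obtain ⟨t, ht⟩ := hb.2 v
      obtain ⟨b, rfl⟩ := (unitStalk y).surjective t
      refine Submodule.mem_span_singleton.mpr ⟨b, ?_⟩
      rw [← toη_sPow, RefPow.sPow_one]
      exact ht
    have h1 := ordS_eq (rankOne_refPow hX hF s hs 1) hy hg one_ne_zero
    rw [one_smul, toη_σ] at h1
    refine h1.trans ?_
    rw [← map_one (toK y), ord_toK_of_isUnit hy isUnit_one]
  · intro h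
    have := bijective_sPow_of s (fun n => ⟨rankOne_refPow hX hF s hs n, (refPow_spec hX hF s hs n).2.1⟩) 1 z
      (toη_injective_of_isReflexive _ (refPow_spec hX hF s hs 1).1.1 (refPow_spec hX hF s hs 1).1.2.1 z)
      fun a ha => mem_range_toK_of_codim_one hX z a fun y hyz hy => by
        have hy' := coheight_eq_one hy
        by_cases ha0 : a = 0
        · exact ⟨0, by rw [map_zero, ha0]⟩
        have h1 := ((smul_σ_mem_range_iff hX hF s hs 1 z a).mp ha).resolve_left ha0 y hyz hy'
        rw [h y hyz hy'] at h1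
        obtain ⟨v, hv⟩ := (smul_σ_mem_range_iff hX hF s hs 0 y a).mpr (Or.inr fun y' hy'' hc => by
          have : y' = y := by
            by_contra hne
            have hlt : y < y' := by
              refine lt_of_le_not_ge (Scheme.le_iff_specializes.mpr hy'') fun hle => hne ?_
              exact (hy''.antisymm (Scheme.le_iff_specializes.mp hle)).eq
            have h2 := Order.coheight_add_one_le hlt
            rw [hy', hc] at h2
            exact absurd h2 (by norm_num)
          subst this
          simpa using h1)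
        obtain ⟨b, hb⟩ := (unitStalk y).surjective v
        refine ⟨b, (unitStalk (genericPoint X)).injective ?_⟩
        rw [← hb, toη, show sp (RefPow.refPow F 0) (hsp y) (unitStalk y b) = unitStalk (genericPoint X) (spR (hsp y) b) from
          sp_unitStalk (hsp y) b] at hv
        refine hv.trans ?_
        rw [σ_zero]
        exact ((unitStalk _).map_smul a 1).symm.trans (by rw [smul_eq_mul, mul_one])
    rw [RefPow.sPow_one] at this
    exact this

include hX hF hs in
/-- Over the locus of the section all powers are generators. -/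
theorem mem_range_toK_of_mem_isoLocus {z : X} (hz : z ∈ RefPow.isoLocus s) (n : ℕ)
    {a : X.presheaf.stalk (genericPoint X)}
    (ha : a • σ s n (genericPoint X) ∈ Set.range (toη (RefPow.refPow F n) z)) :
    a ∈ Set.range (toK z) := by
  have h0 : a • σ s 0 (genericPoint X) ∈ Set.range (toη (RefPow.refPow F 0) z) := by
    refine (smul_σ_mem_range_iff hX hF s hs 0 z a).mpr ?_
    rcases (smul_σ_mem_range_iff hX hF s hs n z a).mp ha with h | h
    · exact Or.inl h
    · refine Or.inr fun y hyz hy => ?_
      have h1 := h y hyz hy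
      rw [(mem_isoLocus_iff_dOrd hX hF s hs z).mp hz y hyz hy] at h1
      simpa using h1
  obtain ⟨v, hv⟩ := h0
  obtain ⟨b, hb⟩ := (unitStalk z).surjective v
  refine ⟨b, (unitStalk (genericPoint X)).injective ?_⟩
  rw [← hb, toη, show sp (RefPow.refPow F 0) (hsp z) (unitStalk z b) = unitStalk (genericPoint X) (spR (hsp z) b) from
    sp_unitStalk (hsp z) b] at hv
  refine hv.trans ?_
  rw [σ_zero]
  exact ((unitStalk _).map_smul a 1).symm.trans (by rw [smul_eq_mul, mul_one])

include hX hF hs in
theorem bijective_sPow {z : X} (hz : z ∈ RefPow.isoLocus s) (n : ℕ) :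
    Function.Bijective (RefHull.stalkMapₗ (RefPow.sPow s n) z) :=
  bijective_sPow_of s (fun n => ⟨rankOne_refPow hX hF s hs n, (refPow_spec hX hF s hs n).2.1⟩) n z
    (toη_injective_of_isReflexive _ (refPow_spec hX hF s hs n).1.1 (refPow_spec hX hF s hs n).1.2.1 z)
    fun _ ha => mem_range_toK_of_mem_isoLocus hX hF s hs hz n ha

include hX hF in
/-- A section with nonempty locus is nonzero at the generic point. -/
theorem σ_ne_zero_of_mem_isoLocus {z : X} (hz : z ∈ RefPow.isoLocus s) :
    σ s 1 (genericPoint X) ≠ 0 := by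
  intro h
  haveI := hF.1.1
  haveI : (Coh.structureModule X).IsQuasicoherent := (isCoh_structureModule (X := X)).1
  have hb := bijective_stalkMap_of_specializes s (hsp z) hz
  rw [σ_one] at h
  exact one_ne_zero ((unitStalk _).injective ((hb.1 (h.trans (map_zero _).symm)).trans (map_zero _).symm))

end Groth.Agent.Ref1

end
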