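import Groth.Agent.Ref1.Pow
import Mathlib.AlgebraicGeometry.Morphisms.Affine
import Mathlib.RingTheory.Finiteness.Ideal

/-!
# When the complement of the divisor of a section is affine
-/

universe u

open CategoryTheory Limits AlgebraicGeometry Opposite TopologicalSpace
open scoped Topology

noncomputable section

namespace Groth.Agent.Ref1

open Groth.Agent.PullStalk.Sky Groth.Agent.HomShQC

variable {X : Scheme.{u}} [IsIntegral X] [IsLocallyNoetherian X] (hX : Pi1.IsNormalScheme X)
  {F : X.Modules} (hF : RefHull.IsRef1 F) (s : Coh.structureModule X ⟶ F)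

include hX hF in
/-- Rational functions `a` with `a sⁿ` in the stalk at a point are regular on the locus. -/
theorem exists_fun_on_locus (hs : σ s 1 (genericPoint X) ≠ 0) {W : X.Opens}
    (hW : ∀ z ∈ W, z ∈ RefPow.isoLocus s) (hηW : genericPoint X ∈ W) (n : ℕ)
    {a : X.presheaf.stalk (genericPoint X)}
    (ha : ∀ z ∈ W, a • σ s n (genericPoint X) ∈ Set.range (toη (RefPow.refPow F n) z)) :
    ∃ e : Γ(X, W), X.presheaf.germ W (genericPoint X) hηW e = a := by
  choose r hr using fun (z : W) => mem_range_toK_of_mem_isoLocus hX hF s hs (hW z.1 z.2) n (ha z.1 z.2)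
  obtain ⟨e, he⟩ := exists_sec (Coh.structureModule X) (U := W) (fun z => unitStalk z.1 (r z)) fun x => by
    obtain ⟨W', hxW', c, hc⟩ := X.presheaf.exists_germ_eq (x := x.1) (r x)
    refine ⟨W' ⊓ W, ⟨hxW', x.2⟩, inf_le_right, X.presheaf.map (homOfLE inf_le_left).op c, fun y => ?_⟩
    refine Eq.trans ?_ (unitStalk_germ y.1 y.2 _)
    congr 1
    apply toK_injective
    rw [hr, toK, spR_germ]
    rw [← hr x, ← hc, toK, spR_germ]
    exact (X.presheaf.germ_res_apply (homOfLE inf_le_left) (genericPoint X) _ c).symm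
  refine ⟨e, ?_⟩
  have h1 := he ⟨genericPoint X, hηW⟩
  change IdealSh.GenericPts.germU (genericPoint X) hηW e = _ at h1
  rw [← unitStalk_germ] at h1
  rw [← hr ⟨_, hηW⟩, ← (unitStalk _).injective h1, toK, spR_germ]

include hX hF in
/-- If at every point off the locus some power of the section vanishes, the locus is affine over `X`. -/
theorem isAffineHom_of (hs : σ s 1 (genericPoint X) ≠ 0) (U : X.Opens)
    (hU : (U : Set X) = RefPow.isoLocus s)
    (h : ∀ x : X, x ∉ U → ∃ n : ℕ, 0 < n ∧ RefPow.sPowGerm s n x ∈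
      IsLocalRing.maximalIdeal (X.presheaf.stalk x) •
        (⊤ : Submodule (X.presheaf.stalk x) ((RefPow.refPow F n).presheaf.stalk x))) :
    IsAffineHom U.ι := by
  classical
  have hηU : genericPoint X ∈ U := by
    show genericPoint X ∈ (U : Set X)
    rw [hU, mem_isoLocus_iff_dOrd hX hF s hs]
    intro y hy h1
    have hy' : y = genericPoint X := ((hsp y).antisymm hy).eq.symm
    rw [hy', Order.coheight_eq_zero.mpr (fun z _ => Scheme.le_iff_specializes.mpr (hsp z))] at h1
    exact absurd h1 (by norm_num)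
  refine isAffineHom_of_forall_exists_isAffineOpen _ fun x => ?_
  obtain ⟨_, ⟨V, hV, rfl⟩, hxV, -⟩ :=
    X.isBasis_affineOpens.exists_subset_of_mem_open (Set.mem_univ x) isOpen_univ
  replace hV : IsAffineOpen V := hV
  refine ⟨V, hxV, hV, ?_⟩
  rw [← U.ι.isAffineOpen_iff_of_isOpenImmersion, Scheme.Hom.image_preimage_eq_opensRange_inf,
    Scheme.Opens.opensRange_ι]
  set W := U ⊓ V
  have hηV : genericPoint X ∈ V := (hsp x).mem_open V.2 hxV
  have hηW : genericPoint X ∈ W := ⟨hηU, hηV⟩
  let ρ : Γ(X, V) →+* Γ(X, W) := (X.presheaf.map (homOfLE inf_le_right).op).hom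
  have hρ : ∀ r, X.presheaf.germ W (genericPoint X) hηW (ρ r) = X.presheaf.germ V _ hηV r :=
    fun r => X.presheaf.germ_res_apply (homOfLE inf_le_right) _ hηW r
  let J : Ideal Γ(X, V) := ⨅ (z : X) (hz : z ∈ V) (_ : z ∉ U), (hV.primeIdealOf ⟨z, hz⟩).asIdeal
  refine isAffineOpen_of_isAffineOpen_basicOpen W (ρ '' J) ?_ ?_
  · by_contra hne
    obtain ⟨q, hq, hle⟩ := Ideal.exists_le_maximal _ hne
    haveI := hq.isPrime
    let P : PrimeSpectrum Γ(X, V) := ⟨q.comap ρ, Ideal.IsPrime.comap _⟩
    let z := hV.fromSpec P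
    have hzV : z ∈ V := hV.range_fromSpec.le ⟨P, rfl⟩
    have hzP : hV.primeIdealOf ⟨z, hzV⟩ = P := by
      apply hV.fromSpec.isOpenEmbedding.injective
      exact hV.fromSpec_primeIdealOf ⟨z, hzV⟩
    have hzU : z ∉ U := by
      intro hzU
      obtain ⟨g, hgle, hzg⟩ := hV.exists_basicOpen_le ⟨z, hzU⟩ hzV
      have hgJ : g ∈ J := by
        simp only [J, Submodule.mem_iInf]
        intro w hw hwU
        by_contra hgw
        letI := X.presheaf.algebra_section_stalk ⟨w, hw⟩
        haveI := hV.isLocalization_stalk ⟨w, hw⟩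
        exact hwU (hgle ((X.mem_basicOpen g w hw).mpr (IsLocalization.map_units (X.presheaf.stalk w)
          (⟨g, hgw⟩ : (hV.primeIdealOf ⟨w, hw⟩).asIdeal.primeCompl))))
      have h1 : g ∈ P.asIdeal := hle (Ideal.subset_span ⟨g, hgJ, rfl⟩)
      letI := X.presheaf.algebra_section_stalk ⟨z, hzV⟩
      haveI := hV.isLocalization_stalk ⟨z, hzV⟩
      exact (IsLocalization.AtPrime.isUnit_to_map_iff (X.presheaf.stalk z)
        (hV.primeIdealOf ⟨z, hzV⟩).asIdeal g).mp ((X.mem_basicOpen g z hzV).mp hzg)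
        ((congrArg PrimeSpectrum.asIdeal hzP).ge h1)
    obtain ⟨n, -, hmem⟩ := h z hzU
    rw [RefPow.sPowGerm, show (RefPow.refPow F n).presheaf.germ ⊤ z trivial (SecTwist.val (RefPow.sPow s n) ⊤) =
      σ s n z from val_germ (W := ⊤) _ z trivial] at hmem
    let A := Γ(X, W)
    let pA : Ideal A := P.asIdeal.map ρ
    haveI := (refPow_spec hX hF s hs n).1.1.1
    have hinj := toη_injective_of_isReflexive _ (refPow_spec hX hF s hs n).1.1 (refPow_spec hX hF s hs n).1.2.1
    have key : ∀ v ∈ IsLocalRing.maximalIdeal (X.presheaf.stalk z) •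
        (⊤ : Submodule (X.presheaf.stalk z) ((RefPow.refPow F n).presheaf.stalk z)),
        ∃ c : Γ(X, V), c ∉ P.asIdeal ∧ ∃ e ∈ pA,
          X.presheaf.germ W (genericPoint X) hηW e • σ s n (genericPoint X) =
            X.presheaf.germ V (genericPoint X) hηV c • toη (RefPow.refPow F n) z v := by
      intro v hv
      refine Submodule.smul_induction_on hv (fun m hm w _ => ?_) ?_
      · letI := X.presheaf.algebra_section_stalk ⟨z, hzV⟩
        haveI := hV.isLocalization_stalk ⟨z, hzV⟩
        obtain ⟨⟨r, d⟩, hrd⟩ := IsLocalization.surj (hV.primeIdealOf ⟨z, hzV⟩).asIdeal.primeCompl m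
        have hrd' : m * X.presheaf.germ V z hzV d.1 = X.presheaf.germ V z hzV r := hrd
        have hr : r ∈ P.asIdeal := by
          rw [← hzP]
          refine (IsLocalization.AtPrime.to_map_mem_maximal_iff (X.presheaf.stalk z)
            (hV.primeIdealOf ⟨z, hzV⟩).asIdeal r).mp ?_
          rw [← hrd]
          exact Ideal.mul_mem_right _ _ hm
        letI := Props.QStalk.moduleSections (RefPow.refPow F n) hzV
        haveI := Props.QStalk.isLocalizedModule_germLin (RefPow.refPow F n) hzV hV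
        obtain ⟨⟨t, c⟩, htc⟩ := IsLocalizedModule.surj (hV.primeIdealOf ⟨z, hzV⟩).asIdeal.primeCompl
          (Props.QStalk.germLin (RefPow.refPow F n) hzV) w
        have htc' : X.presheaf.germ V z hzV c.1 • w = germM (RefPow.refPow F n) V z hzV t := htc
        obtain ⟨a, ha⟩ := (rankOne_refPow hX hF s hs n).exists_smul (refPow_spec hX hF s hs n).2.1
          (germM (RefPow.refPow F n) V (genericPoint X) hηV t)
        obtain ⟨e, he⟩ := exists_fun_on_locus hX hF s hs (W := W) (fun u hu => hU.le hu.1) hηW n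
          (a := a) fun u hu => ⟨germM (RefPow.refPow F n) V u hu.2 t, by rw [← ha, toη, sp_germ]⟩
        refine ⟨d.1 * c.1, fun hh => ?_, ρ r * e, Ideal.mul_mem_right _ _ (Ideal.mem_map_of_mem ρ hr), ?_⟩
        · rcases P.isPrime.mem_or_mem hh with h' | h'
          · exact d.2 ((congrArg PrimeSpectrum.asIdeal hzP).ge h')
          · exact c.2 ((congrArg PrimeSpectrum.asIdeal hzP).ge h')
        · rw [map_mul, hρ, he, mul_smul, ← ha, ← spR_germ (hsp z) hzV r, ← spR_germ (hsp z) hzV (d.1 * c.1),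
            ← sp_germ (RefPow.refPow F n) (hsp z) hzV t, ← sp_smul, ← sp_smul, ← hrd', ← htc', map_mul,
            smul_smul, smul_smul]
          congr 2
          ring
      · rintro v w ⟨c, hc, e, he, hce⟩ ⟨c', hc', e', he', hce'⟩
        refine ⟨c * c', fun hh => (P.isPrime.mem_or_mem hh).elim hc hc', ρ c' * e + ρ c * e',
          Ideal.add_mem _ (Ideal.mul_mem_left _ _ he) (Ideal.mul_mem_left _ _ he'), ?_⟩
        rw [map_add, map_add, map_mul, map_mul, hρ, hρ, add_smul, mul_smul, mul_smul, hce, hce', map_mul,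
          smul_add, smul_smul, smul_smul, mul_comm (X.presheaf.germ V (genericPoint X) hηV c')]
    obtain ⟨c, hc, e, he, hce⟩ := key _ hmem
    rw [toη_σ, ← hρ] at hce
    have hec : e = ρ c := by
      refine germ_injective_of_isIntegral X (genericPoint X) hηW (sub_eq_zero.mp
        (((rankOne_refPow hX hF s hs n).eq_zero_or _ (σ s n (genericPoint X)) ?_).resolve_right
          (refPow_spec hX hF s hs n).2.1))
      rw [sub_smul, hce, sub_self]
    exact hc (show ρ c ∈ q from (Ideal.map_le_iff_le_comap.mpr le_rfl : pA ≤ q) (hec ▸ he))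
  · rintro _ ⟨g, hg, rfl⟩
    rw [SetLike.mem_coe] at hg
    simp only [J, Submodule.mem_iInf] at hg
    have hgU : X.basicOpen g ≤ U := fun w hw => by
      by_contra hwU
      have hwV : w ∈ V := X.basicOpen_le g hw
      letI := X.presheaf.algebra_section_stalk ⟨w, hwV⟩
      haveI := hV.isLocalization_stalk ⟨w, hwV⟩
      exact (IsLocalization.AtPrime.isUnit_to_map_iff (X.presheaf.stalk w)
        (hV.primeIdealOf ⟨w, hwV⟩).asIdeal g).mp ((X.mem_basicOpen g w hwV).mp hw) (hg w hwV hwU)
    show IsAffineOpen (X.basicOpen (X.presheaf.map (homOfLE inf_le_right).op g))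
    rw [Scheme.basicOpen_res, inf_eq_right.mpr (le_inf hgU (X.basicOpen_le g))]
    exact hV.basicOpen g

lemma ordS_unit {y : X} (hy : Order.coheight y = 1) {a : X.presheaf.stalk (genericPoint X)} (ha : a ≠ 0) :
    ordS (Coh.structureModule X) y (unitStalk (genericPoint X) a) = Scheme.ord a y := by
  have hg : IsGenAt (Coh.structureModule X) y (unitStalk y 1) := by
    refine ⟨eq_top_iff.mpr fun v _ => ?_, ?_⟩
    · obtain ⟨r, rfl⟩ := (unitStalk y).surjective v
      exact Submodule.mem_span_singleton.mpr ⟨r, by rw [← map_smul, smul_eq_mul, mul_one]⟩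
    · rw [toη, sp_unitStalk, map_one (spR (hsp y))]
      exact fun h => one_ne_zero ((unitStalk (genericPoint X)).injective (h.trans (map_zero _).symm))
  have h1 : unitStalk (genericPoint X) a = a • toη (Coh.structureModule X) y (unitStalk y 1) := by
    rw [toη, sp_unitStalk, map_one (spR (hsp y)), ← map_smul, smul_eq_mul, mul_one]
  rw [h1, ordS_eq ⟨unitStalk _⟩ hy hg ha]

include hX hF in
/-- A rational function regular on the locus times a high power of the section is regular. -/
theorem exists_pow_mem_range (hs : σ s 1 (genericPoint X) ≠ 0) (x : X)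
    (a : X.presheaf.stalk (genericPoint X))
    (ha : ∀ z : X, z ⤳ x → z ∈ RefPow.isoLocus s → a ∈ Set.range (toK z)) :
    ∃ N, ∀ n, N ≤ n → a • σ s n (genericPoint X) ∈ Set.range (toη (RefPow.refPow F n) x) := by
  by_cases ha0 : a = 0
  · exact ⟨0, fun n _ => (smul_σ_mem_range_iff hX hF s hs n x a).mpr (Or.inl ha0)⟩
  obtain ⟨O, hO, hfin⟩ := finite_ordS_ne_zero (Coh.structureModule X)
    (isRef1_structureModule (X := X)).2.2 (s := unitStalk (genericPoint X) a)
    (fun h => ha0 ((unitStalk (genericPoint X)).injective (h.trans (map_zero _).symm))) x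
  obtain ⟨O', hO'O, hO', hxO'⟩ := mem_nhds_iff.mp hO
  obtain ⟨N, hN⟩ := (hfin.image fun y => (-Scheme.ord a y).toNat).bddAbove
  refine ⟨N, fun n hn => (smul_σ_mem_range_iff hX hF s hs n x a).mpr (Or.inr fun y hyx hy => ?_)⟩
  have hd := dOrd_nonneg hX hF s hs hy
  by_cases h0 : 0 ≤ Scheme.ord a y
  · exact add_nonneg h0 (mul_nonneg (Int.natCast_nonneg _) hd)
  have hyU : y ∉ RefPow.isoLocus s := fun hyU => by
    obtain ⟨c, hc⟩ := ha y hyx hyU
    have hc0 : c ≠ 0 := by rintro rfl; exact ha0 (by rw [← hc, map_zero])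
    refine h0 ?_
    rw [← hc, ord_toK hy hc0]
    exact Int.natCast_nonneg _
  have hd1 : 1 ≤ dOrd s y := by
    rw [mem_isoLocus_iff_dOrd hX hF s hs] at hyU
    push Not at hyU
    obtain ⟨y', hy'y, hy', hne⟩ := hyU
    have : y' = y := by
      by_contra hne'
      have hlt : y < y' := by
        refine lt_of_le_not_ge (Scheme.le_iff_specializes.mpr hy'y) fun hle => hne' ?_
        exact (hy'y.antisymm (Scheme.le_iff_specializes.mp hle)).eq
      have h2 := Order.coheight_add_one_le hlt
      rw [hy, hy'] at h2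
      exact absurd h2 (by norm_num)
    subst this
    omega
  have hk := hN ⟨y, ⟨hO'O (hyx.mem_open hO' hxO'), hy, by rw [ordS_unit hy ha0]; omega⟩, rfl⟩
  have hmul : (n : ℤ) ≤ n * dOrd s y := le_mul_of_one_le_right (Int.natCast_nonneg _) hd1
  have hk' : (-Scheme.ord a y).toNat ≤ N := hk
  omega

include hX hF in
/-- If the locus is affine over `X`, some power of the section vanishes at every point off it. -/
theorem exists_pow_germ_mem (hs : σ s 1 (genericPoint X) ≠ 0) (U : X.Opens)
    (hU : (U : Set X) = RefPow.isoLocus s) [IsAffineHom U.ι] (x : X) (hx : x ∉ U) :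
    ∃ n : ℕ, 0 < n ∧ RefPow.sPowGerm s n x ∈ IsLocalRing.maximalIdeal (X.presheaf.stalk x) •
      (⊤ : Submodule (X.presheaf.stalk x) ((RefPow.refPow F n).presheaf.stalk x)) := by
  classical
  have hηU : genericPoint X ∈ U := by
    show genericPoint X ∈ (U : Set X)
    rw [hU, mem_isoLocus_iff_dOrd hX hF s hs]
    intro y hy h1
    have hy' : y = genericPoint X := ((hsp y).antisymm hy).eq.symm
    rw [hy', Order.coheight_eq_zero.mpr (fun z _ => Scheme.le_iff_specializes.mpr (hsp z))] at h1
    exact absurd h1 (by norm_num)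
  obtain ⟨_, ⟨V, hV, rfl⟩, hxV, -⟩ :=
    X.isBasis_affineOpens.exists_subset_of_mem_open (Set.mem_univ x) isOpen_univ
  replace hV : IsAffineOpen V := hV
  set W := U ⊓ V with hWdef
  have hW : IsAffineOpen W := by
    have h1 := hV.preimage U.ι
    rwa [← U.ι.isAffineOpen_iff_of_isOpenImmersion, Scheme.Hom.image_preimage_eq_opensRange_inf,
      Scheme.Opens.opensRange_ι] at h1
  have hηV : genericPoint X ∈ V := (hsp x).mem_open V.2 hxV
  have hηW : genericPoint X ∈ W := ⟨hηU, hηV⟩
  let ρ : Γ(X, V) →+* Γ(X, W) := (X.presheaf.map (homOfLE inf_le_right).op).hom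
  have hρ : ∀ r, X.presheaf.germ W (genericPoint X) hηW (ρ r) = X.presheaf.germ V _ hηV r :=
    fun r => X.presheaf.germ_res_apply (homOfLE inf_le_right) _ hηW r
  have htop : Ideal.map ρ (hV.primeIdealOf ⟨x, hxV⟩).asIdeal = ⊤ := by
    by_contra hne
    obtain ⟨q, hq, hle⟩ := Ideal.exists_le_maximal _ hne
    let Q : PrimeSpectrum Γ(X, W) := ⟨q, hq.isPrime⟩
    let u := hW.fromSpec Q
    have huW : u ∈ W := hW.range_fromSpec.le ⟨Q, rfl⟩
    have huQ : hW.primeIdealOf ⟨u, huW⟩ = Q := by
      apply hW.fromSpec.isOpenEmbedding.injective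
      exact hW.fromSpec_primeIdealOf ⟨u, huW⟩
    have hle' : hV.primeIdealOf ⟨x, hxV⟩ ≤ hV.primeIdealOf ⟨u, huW.2⟩ := fun r hr => by
      letI := X.presheaf.algebra_section_stalk ⟨u, huW.2⟩
      haveI := hV.isLocalization_stalk ⟨u, huW.2⟩
      refine (IsLocalization.AtPrime.to_map_mem_maximal_iff (X.presheaf.stalk u)
        (hV.primeIdealOf ⟨u, huW.2⟩).asIdeal r).mp ?_
      show X.presheaf.germ V u huW.2 r ∈ IsLocalRing.maximalIdeal _
      rw [← X.presheaf.germ_res_apply (homOfLE (inf_le_right : W ≤ V)) u huW r]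
      letI := X.presheaf.algebra_section_stalk ⟨u, huW⟩
      haveI := hW.isLocalization_stalk ⟨u, huW⟩
      refine (IsLocalization.AtPrime.to_map_mem_maximal_iff (X.presheaf.stalk u)
        (hW.primeIdealOf ⟨u, huW⟩).asIdeal (ρ r)).mpr ?_
      rw [huQ]
      exact hle (Ideal.mem_map_of_mem ρ hr)
    have := ((PrimeSpectrum.le_iff_specializes _ _).mp hle').map hV.fromSpec.continuous
    rw [hV.fromSpec_primeIdealOf, hV.fromSpec_primeIdealOf] at this
    exact hx (this.mem_open U.2 huW.1)
  have h1 : (1 : Γ(X, W)) ∈ Submodule.span Γ(X, W) (ρ '' (hV.primeIdealOf ⟨x, hxV⟩).asIdeal) := by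
    change (1 : Γ(X, W)) ∈ Ideal.map ρ _
    rw [htop]
    trivial
  obtain ⟨l, hl, hl1⟩ := (Finsupp.mem_span_image_iff_linearCombination Γ(X, W)).mp h1
  have hN : ∀ r : Γ(X, V), ∃ N, ∀ n, N ≤ n →
      X.presheaf.germ W (genericPoint X) hηW (l r) • σ s n (genericPoint X) ∈
        Set.range (toη (RefPow.refPow F n) x) := fun r =>
    exists_pow_mem_range hX hF s hs x _ fun z hzx hz => by
      have hzW : z ∈ W := ⟨hU.ge hz, hzx.mem_open V.2 hxV⟩
      exact ⟨X.presheaf.germ W z hzW (l r), spR_germ (hsp z) hzW _⟩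
  choose N hN using hN
  let n := l.support.sup N + 1
  refine ⟨n, Nat.succ_pos _, ?_⟩
  rw [RefPow.sPowGerm, show (RefPow.refPow F n).presheaf.germ ⊤ x trivial (SecTwist.val (RefPow.sPow s n) ⊤) =
    σ s n x from val_germ (W := ⊤) _ x trivial]
  choose v hv using fun r : l.support => hN r.1 n ((Finset.le_sup r.2).trans (Nat.le_succ _))
  have hinj := toη_injective_of_isReflexive _ (refPow_spec hX hF s hs n).1.1 (refPow_spec hX hF s hs n).1.2.1
  have hσ : σ s n x = ∑ r ∈ l.support.attach, X.presheaf.germ V x hxV r.1 • v r := by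
    refine hinj x ?_
    rw [toη_σ, map_sum]
    simp only [toη, sp_smul, spR_germ]
    have hterm : ∀ r : l.support, X.presheaf.germ V (genericPoint X) hηV r.1 • sp (RefPow.refPow F n) (hsp x) (v r) =
        X.presheaf.germ W (genericPoint X) hηW (l r.1 * ρ r.1) • σ s n (genericPoint X) := fun r => by
      rw [show sp (RefPow.refPow F n) (hsp x) (v r) = _ from hv r, smul_smul, map_mul, hρ, mul_comm]
    rw [Finset.sum_congr rfl fun r _ => hterm r, ← Finset.sum_smul, ← map_sum,
      Finset.sum_attach l.support (fun r => l r * ρ r)]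
    have : ∑ r ∈ l.support, l r * ρ r = 1 := hl1
    rw [this, map_one, one_smul]
  rw [hσ]
  refine Submodule.sum_mem _ fun r _ => Submodule.smul_mem_smul ?_ trivial
  letI := X.presheaf.algebra_section_stalk ⟨x, hxV⟩
  haveI := hV.isLocalization_stalk ⟨x, hxV⟩
  exact (IsLocalization.AtPrime.to_map_mem_maximal_iff (X.presheaf.stalk x)
    (hV.primeIdealOf ⟨x, hxV⟩).asIdeal r.1).mpr ((Finsupp.mem_supported _ l).mp hl r.2)

include hX hF in
/-- The affineness criterion. -/
theorem isAffineHom_iff (U : X.Opens) (hU : (U : Set X) = RefPow.isoLocus s) :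
    IsAffineHom U.ι ↔ ∀ x : X, x ∉ U → ∃ n : ℕ, 0 < n ∧ RefPow.sPowGerm s n x ∈
      IsLocalRing.maximalIdeal (X.presheaf.stalk x) •
        (⊤ : Submodule (X.presheaf.stalk x) ((RefPow.refPow F n).presheaf.stalk x)) := by
  by_cases hs : σ s 1 (genericPoint X) = 0
  · have hbot : U = ⊥ := by
      refine Opens.ext (Set.eq_empty_iff_forall_notMem.mpr fun z hz => ?_)
      exact σ_ne_zero_of_mem_isoLocus hX hF s (hU.le hz) hs
    refine ⟨fun _ x _ => ⟨1, Nat.one_pos, ?_⟩, fun _ => ?_⟩
    · rw [RefPow.sPowGerm, show (RefPow.refPow F 1).presheaf.germ ⊤ x trivial (SecTwist.val (RefPow.sPow s 1) ⊤) =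
        σ s 1 x from val_germ (W := ⊤) _ x trivial]
      have h0 : σ s 1 x = 0 := toη_injective_of_isReflexive F hF.1 hF.2.1 x
        (((toη_σ s 1 x).trans hs).trans (map_zero _).symm)
      rw [h0]
      exact zero_mem _
    · subst hbot
      refine isAffineHom_of_forall_exists_isAffineOpen _ fun x => ?_
      obtain ⟨_, ⟨V, hV, rfl⟩, hxV, -⟩ :=
        X.isBasis_affineOpens.exists_subset_of_mem_open (Set.mem_univ x) isOpen_univ
      refine ⟨V, hxV, hV, ?_⟩
      rw [← (⊥ : X.Opens).ι.isAffineOpen_iff_of_isOpenImmersion, Scheme.Hom.image_preimage_eq_opensRange_inf,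
        Scheme.Opens.opensRange_ι, bot_inf_eq]
      exact isAffineOpen_bot X
  · exact ⟨fun h x hx => exists_pow_germ_mem hX hF s hs U hU x hx, fun h => isAffineHom_of hX hF s hs U hU h⟩

end Groth.Agent.Ref1

end
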