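import Groth.Agent.Ref1.PowAffine
import Groth.Agent.ZClosLib.FilteredSections

/-!
# The system of reflexive powers computes the pushforward from the locus of the section
-/

universe u

open CategoryTheory Limits AlgebraicGeometry Opposite TopologicalSpace

noncomputable section

namespace Groth.Agent.Ref1

open Groth.Agent.PullStalk.Sky Groth.Agent.HomShQC Groth.Agent.QCoh

variable {X : Scheme.{u}}

lemma stalkMapₗ_comp_apply {F G H : X.Modules} (φ : F ⟶ G) (ψ : G ⟶ H) (x : X) (v : F.presheaf.stalk x) :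
    RefHull.stalkMapₗ (φ ≫ ψ) x v = RefHull.stalkMapₗ ψ x (RefHull.stalkMapₗ φ x v) := by
  rw [RefFun.stalkMapₗ_comp]
  rfl

/-- A cocone over `ℕ` which is a colimit on stalks is a colimit. -/
theorem nonempty_isColimit_of_stalk {D : ℕ ⥤ X.Modules} (c : Cocone D)
    (hsurj : ∀ (x : X) (p : c.pt.presheaf.stalk x), ∃ n v, RefHull.stalkMapₗ (c.ι.app n) x v = p)
    (hzero : ∀ (x : X) (n : ℕ) (v : (D.obj n).presheaf.stalk x),
      RefHull.stalkMapₗ (c.ι.app n) x v = 0 →
      ∃ (m : ℕ) (f : n ⟶ m), RefHull.stalkMapₗ (D.map f) x v = 0) :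
    Nonempty (IsColimit c) := by
  have hw : ∀ (d : Cocone D) (x : X) (n m : ℕ) (f : n ⟶ m) (v : (D.obj n).presheaf.stalk x),
      RefHull.stalkMapₗ (d.ι.app m) x (RefHull.stalkMapₗ (D.map f) x v) =
        RefHull.stalkMapₗ (d.ι.app n) x v := by
    intro d x n m f v
    rw [← stalkMapₗ_comp_apply, d.w f]
  have key : ∀ (d : Cocone D) (x : X) (n n' : ℕ) (v : (D.obj n).presheaf.stalk x)
      (v' : (D.obj n').presheaf.stalk x),
      RefHull.stalkMapₗ (c.ι.app n) x v = RefHull.stalkMapₗ (c.ι.app n') x v' →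
      RefHull.stalkMapₗ (d.ι.app n) x v = RefHull.stalkMapₗ (d.ι.app n') x v' := by
    intro d x n n' v v' h
    let f : n ⟶ max n n' := homOfLE (le_max_left _ _)
    let f' : n' ⟶ max n n' := homOfLE (le_max_right _ _)
    have h0 : RefHull.stalkMapₗ (c.ι.app (max n n')) x
        (RefHull.stalkMapₗ (D.map f) x v - RefHull.stalkMapₗ (D.map f') x v') = 0 := by
      rw [map_sub, hw, hw, h, sub_self]
    obtain ⟨m, g, hg⟩ := hzero x _ _ h0
    have := congrArg (RefHull.stalkMapₗ (d.ι.app m) x) hg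
    rwa [hw, map_sub, hw, hw, map_zero, sub_eq_zero] at this
  have hex : ∀ d : Cocone D, ∃ ψ : c.pt ⟶ d.pt, ∀ n, c.ι.app n ≫ ψ = d.ι.app n := by
    intro d
    choose n v hv using hsurj
    let f : ∀ x, RefHull.StalkHom c.pt d.pt x := fun x =>
      { toFun := fun p => RefHull.stalkMapₗ (d.ι.app (n x p)) x (v x p)
        map_add' := fun a b => by
          let m := max (n x a) (n x b)
          let f₁ : n x a ⟶ m := homOfLE (le_max_left _ _)
          let f₂ : n x b ⟶ m := homOfLE (le_max_right _ _)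
          have h := key d x (n x (a + b)) m (v x (a + b))
            (RefHull.stalkMapₗ (D.map f₁) x (v x a) + RefHull.stalkMapₗ (D.map f₂) x (v x b))
            (by rw [map_add, hw, hw, hv, hv, hv])
          rw [h, map_add, hw, hw]
        map_smul' := fun r a => by
          rw [RingHom.id_apply, key d x (n x (r • a)) (n x a) (v x (r • a)) (r • v x a)
            (by rw [map_smul, hv, hv]), map_smul] }
    have hf : ∀ x m w, f x (RefHull.stalkMapₗ (c.ι.app m) x w) = RefHull.stalkMapₗ (d.ι.app m) x w :=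
      fun x m w => key d x _ m _ w (hv x _)
    have hloc : RefHull.IsLocSect c.pt d.pt (U := ⊤) (fun x => f x.1) := by
      intro V i m x
      obtain ⟨W₀, hxW₀, w, hw'⟩ := exists_germM_eq _ x.1 (v x.1 (c.pt.presheaf.germ V x.1 x.2 m))
      have he : germM c.pt W₀ x.1 hxW₀ ((c.ι.app _).app W₀ w) = c.pt.presheaf.germ V x.1 x.2 m := by
        refine (RefHull.stalkMapₗ_germ _ x.1 hxW₀ w).symm.trans ?_
        rw [show (D.obj _).presheaf.germ W₀ x.1 hxW₀ w = _ from hw', hv]
      obtain ⟨W, hxW, i₁, i₂, hW⟩ := c.pt.presheaf.germ_eq x.1 hxW₀ x.2 _ _ he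
      refine ⟨W, hxW, i₂, (d.ι.app (n x.1 (c.pt.presheaf.germ V x.1 x.2 m))).app W
        (res _ i₁.le w), fun y => ?_⟩
      have e : germM c.pt V y.1 (i₂.le y.2) m = RefHull.stalkMapₗ
          (c.ι.app (n x.1 (c.pt.presheaf.germ V x.1 x.2 m))) y.1 (germM _ W₀ y.1 (i₁.le y.2) w) := by
        refine Eq.trans ?_ (RefHull.stalkMapₗ_germ _ y.1 (i₁.le y.2) w).symm
        refine (c.pt.presheaf.germ_res_apply i₂ y.1 y.2 m).symm.trans ?_
        rw [← hW]
        exact c.pt.presheaf.germ_res_apply i₁ y.1 y.2 _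
      rw [show c.pt.presheaf.germ V y.1 _ m = _ from e, hf, ← germM_res _ i₁.le y.1 y.2 w]
      exact RefHull.stalkMapₗ_germ _ y.1 y.2 _
    refine ⟨homOfSec ⟨fun x => f x.1, hloc⟩, fun m => Omega.Stalks.hom_ext_stalk fun x => LinearMap.ext fun w => ?_⟩
    show RefHull.stalkMapₗ (c.ι.app m ≫ _) x w = RefHull.stalkMapₗ (d.ι.app m) x w
    rw [stalkMapₗ_comp_apply, stalkMapₗ_homOfSec]
    exact hf x m w
  choose ψ hψ using hex
  refine ⟨{ desc := ψ, fac := hψ, uniq := fun d g hg => ?_ }⟩
  refine Omega.Stalks.hom_ext_stalk fun x => LinearMap.ext fun p => ?_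
  obtain ⟨n, v, rfl⟩ := hsurj x p
  show RefHull.stalkMapₗ g x _ = RefHull.stalkMapₗ (ψ d) x _
  rw [← stalkMapₗ_comp_apply, ← stalkMapₗ_comp_apply, hg, hψ]

/-- A morphism bijective on stalks over an open restricts to an isomorphism. -/
theorem isIso_restrict_of_bijective {M N : X.Modules} (φ : M ⟶ N) (U : X.Opens)
    (h : ∀ z ∈ U, Function.Bijective (RefHull.stalkMapₗ φ z)) :
    IsIso ((Scheme.Modules.restrictFunctor U.ι).map φ) := by
  refine Scheme.Modules.Hom.isIso_iff_isIso_app.mpr fun W => ?_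
  have hW : ∀ z ∈ U.ι ''ᵁ W, z ∈ U := fun z hz => U.ι_image_le W hz
  refine (ConcreteCategory.isIso_iff_bijective _).mpr ⟨?_, fun m => ?_⟩
  · intro a b hab
    refine sec_ext M fun z hz => (h z (hW z hz)).1 ?_
    rw [RefHull.stalkMapₗ_germ, RefHull.stalkMapₗ_germ]
    exact congrArg _ hab
  · choose t ht using fun z : (U.ι ''ᵁ W : X.Opens) => (h z.1 (hW z.1 z.2)).2 (germM N _ z.1 z.2 m)
    obtain ⟨a, ha⟩ := exists_sec M t fun x => by
      obtain ⟨W₀, hxW₀, w, hw⟩ := exists_germM_eq M x.1 (t x)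
      have he : germM N W₀ x.1 hxW₀ (φ.app W₀ w) = germM N _ x.1 x.2 m := by
        refine (RefHull.stalkMapₗ_germ φ x.1 hxW₀ w).symm.trans ?_
        rw [show M.presheaf.germ W₀ x.1 hxW₀ w = _ from hw, ht]
      obtain ⟨W', hxW', i₁, i₂, hW'⟩ := N.presheaf.germ_eq x.1 hxW₀ x.2 _ _ he
      refine ⟨W', hxW', i₂.le, res M i₁.le w, fun y => (h y.1 (hW y.1 (i₂.le y.2))).1 ?_⟩
      refine (ht ⟨y.1, i₂.le y.2⟩).trans (Eq.symm ?_)
      refine ((congrArg (RefHull.stalkMapₗ φ y.1) (germM_res M i₁.le y.1 y.2 w)).trans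
        (RefHull.stalkMapₗ_germ φ y.1 (i₁.le y.2) w)).trans ?_
      exact (N.presheaf.germ_res_apply i₁ y.1 y.2 _).symm.trans
        ((congrArg (N.presheaf.germ W' y.1 y.2) hW').trans (N.presheaf.germ_res_apply i₂ y.1 y.2 m))
    refine ⟨a, sec_ext N fun z hz => ?_⟩
    refine ((RefHull.stalkMapₗ_germ φ z hz a).symm.trans ?_)
    exact (congrArg (RefHull.stalkMapₗ φ z) (ha ⟨z, hz⟩)).trans (ht ⟨z, hz⟩)

variable [IsIntegral X] [IsLocallyNoetherian X] (hX : Pi1.IsNormalScheme X)
  {F : X.Modules} (hF : RefHull.IsRef1 F) (s : Coh.structureModule X ⟶ F)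
  (U : X.Opens) (hU : (U : Set X) = RefPow.isoLocus s)

include hX hF hU in
theorem isIso_restrict_sPow (n : ℕ) :
    IsIso ((Scheme.Modules.restrictFunctor U.ι).map (RefPow.sPow s n)) :=
  isIso_restrict_of_bijective _ U fun z hz => by
    have hz' : z ∈ RefPow.isoLocus s := hU.le hz
    exact bijective_sPow hX hF s (σ_ne_zero_of_mem_isoLocus hX hF s hz') hz' n

include hX hF hU in
/-- The pushforward from the locus is the colimit of the reflexive powers. -/
theorem exists_isColimit :
    ∃ ι : RefPow.diagram F s ⟶ (Functor.const ℕ).obj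
        ((Scheme.Modules.pushforward U.ι).obj ((Coh.structureModule X).restrict U.ι)),
      ι.app 0 = (Scheme.Modules.restrictAdjunction U.ι).unit.app (Coh.structureModule X) ∧
        Nonempty (IsColimit (Cocone.mk _ ι)) := by
  haveI : ∀ n, IsIso ((Scheme.Modules.restrictFunctor U.ι).map (RefPow.sPow s n)) :=
    isIso_restrict_sPow hX hF s U hU
  let adj := Scheme.Modules.restrictAdjunction U.ι
  let P := (Scheme.Modules.pushforward U.ι).obj ((Coh.structureModule X).restrict U.ι)
  let leg : ∀ n, RefPow.refPow F n ⟶ P := fun n =>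
    adj.unit.app (RefPow.refPow F n) ≫
      (Scheme.Modules.pushforward U.ι).map (inv ((Scheme.Modules.restrictFunctor U.ι).map (RefPow.sPow s n)))
  have hnat : ∀ n, RefPow.mulBy s n ≫ leg (n + 1) = leg n := by
    intro n
    have h1 : (Scheme.Modules.restrictFunctor U.ι).map (RefPow.mulBy s n) ≫
        inv ((Scheme.Modules.restrictFunctor U.ι).map (RefPow.sPow s (n + 1))) =
        inv ((Scheme.Modules.restrictFunctor U.ι).map (RefPow.sPow s n)) := by
      rw [IsIso.comp_inv_eq, eq_comm, IsIso.inv_comp_eq, ← Functor.map_comp, RefPow.sPow_succ]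
    simp only [leg]
    have h2 := adj.unit.naturality (RefPow.mulBy s n)
    simp only [Functor.id_map, Functor.comp_map] at h2
    rw [← Category.assoc, h2, Category.assoc, ← Functor.map_comp, h1]
  have hleg : ∀ (n m : ℕ) (h : n ≤ m), (RefPow.diagram F s).map (homOfLE h) ≫ leg m = leg n := by
    intro n m h
    induction m, h using Nat.le_induction with
    | base => exact (congrArg (· ≫ leg n) ((RefPow.diagram F s).map_id n)).trans (Category.id_comp _)
    | succ m h ih =>
      rw [← homOfLE_comp h (Nat.le_succ m), Functor.map_comp, Category.assoc, RefPow.diagram_map]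
      exact (congrArg ((RefPow.diagram F s).map (homOfLE h) ≫ ·) (hnat m)).trans ih
  have hσP : ∀ n, RefPow.sPow s n ≫ leg n = adj.unit.app (Coh.structureModule X) := by
    intro n
    have h2 := adj.unit.naturality (RefPow.sPow s n)
    simp only [Functor.id_map, Functor.comp_map] at h2
    simp only [leg]
    rw [← Category.assoc, h2, Category.assoc, ← Functor.map_comp, IsIso.hom_inv_id,
      CategoryTheory.Functor.map_id]
    exact Category.comp_id _
  let ι : RefPow.diagram F s ⟶ (Functor.const ℕ).obj P :=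
    { app := leg
      naturality := fun {n m} f => by
        have : f = homOfLE (leOfHom f) := Subsingleton.elim _ _
        rw [this]
        exact (hleg n m (leOfHom f)).trans (Category.comp_id _).symm }
  refine ⟨ι, ?_, ?_⟩
  · show leg 0 = _
    exact (Category.id_comp _).symm.trans (hσP 0)
  -- the sections of the pushforward
  have hP : ∀ {x : X} {W : X.Opens} (hx : x ∈ W) (b : Γ(X, W)),
      RefHull.stalkMapₗ (adj.unit.app (Coh.structureModule X)) x (unitStalk x (X.presheaf.germ W x hx b)) =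
        germM P W x hx (X.presheaf.map (homOfLE (U.ι.image_preimage_le W)).op b) := by
    intro x W hx b
    rw [unitStalk_germ]
    exact RefHull.stalkMapₗ_germ _ x hx _
  refine nonempty_isColimit_of_stalk (Cocone.mk _ ι) (fun x p => ?_) (fun x n v hv => ?_)
  · obtain ⟨W₀, hxW₀, t, rfl⟩ := exists_germM_eq P x p
    by_cases hs : σ s 1 (genericPoint X) = 0
    · refine ⟨0, 0, ?_⟩
      rw [map_zero]
      refine Eq.symm ?_
      have hsub : t = 0 := by
        refine sec_ext P fun z hz => ?_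
        have hbot : U.ι ''ᵁ (U.ι ⁻¹ᵁ W₀) = ⊥ := by
          refine Opens.ext (Set.eq_empty_iff_forall_notMem.mpr fun y hy => ?_)
          exact σ_ne_zero_of_mem_isoLocus hX hF s (hU.le (U.ι_image_le _ hy)) hs
        haveI : Subsingleton Γ(P, W₀) := by
          change Subsingleton Γ(X, U.ι ''ᵁ (U.ι ⁻¹ᵁ W₀))
          rw [hbot]
          exact CommRingCat.subsingleton_of_isTerminal X.sheaf.isTerminalOfEmpty
        rw [Subsingleton.elim t 0]
      rw [hsub]
      exact map_zero _
    · set W' := U.ι ''ᵁ (U.ι ⁻¹ᵁ W₀)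
      have hW' : W' = U ⊓ W₀ := by
        show U.ι ''ᵁ (U.ι ⁻¹ᵁ W₀) = _
        rw [Scheme.Hom.image_preimage_eq_opensRange_inf, Scheme.Opens.opensRange_ι]
      have hηU : genericPoint X ∈ U := by
        show genericPoint X ∈ (U : Set X)
        rw [hU, mem_isoLocus_iff_dOrd hX hF s hs]
        intro y hy h1
        have hy' : y = genericPoint X := ((hsp y).antisymm hy).eq.symm
        rw [hy', Order.coheight_eq_zero.mpr (fun z _ => Scheme.le_iff_specializes.mpr (hsp z))] at h1
        exact absurd h1 (by norm_num)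
      have hη₀ : genericPoint X ∈ W₀ := (hsp x).mem_open W₀.2 hxW₀
      have hη' : genericPoint X ∈ W' := hW'.ge ⟨hηU, hη₀⟩
      let t' : Γ(X, W') := t
      let a := X.presheaf.germ W' (genericPoint X) hη' t'
      obtain ⟨N, hN⟩ := exists_pow_mem_range hX hF s hs x a fun z hzx hz => by
        have hzW : z ∈ W' := hW'.ge ⟨hU.ge hz, hzx.mem_open W₀.2 hxW₀⟩
        exact ⟨X.presheaf.germ W' z hzW t', spR_germ (hsp z) hzW t'⟩
      obtain ⟨v, hv⟩ := hN N le_rfl
      refine ⟨N, v, ?_⟩
      haveI := (refPow_spec hX hF s hs N).1.1.1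
      haveI : (Coh.structureModule X).IsQuasicoherent := (isCoh_structureModule (X := X)).1
      obtain ⟨c, bσ, hc, hbσ⟩ := exists_smul_eq_toη (Coh.structureModule X) x (unitStalk (genericPoint X) a)
      obtain ⟨b, rfl⟩ := (unitStalk x).surjective bσ
      rw [toη, sp_unitStalk, ← map_smul, smul_eq_mul] at hbσ
      have hb : toK x b = toK x c * a := (unitStalk _).injective hbσ
      have hcv : c • v = RefHull.stalkMapₗ (RefPow.sPow s N) x (unitStalk x b) := by
        refine toη_injective_of_isReflexive _ (refPow_spec hX hF s hs N).1.1 (refPow_spec hX hF s hs N).1.2.1 x ?_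
        rw [toη_sPow, toη, sp_smul, sp_smul, show sp (RefPow.refPow F N) (hsp x) v = _ from hv,
          show sp (RefPow.refPow F N) (hsp x) (σ s N x) = _ from toη_σ s N x, smul_smul]
        exact congrArg (· • _) hb.symm
      have h1 : c • RefHull.stalkMapₗ (leg N) x v = c • germM P W₀ x hxW₀ t := by
        rw [← map_smul, hcv, ← stalkMapₗ_comp_apply, hσP]
        obtain ⟨V₁, hV₁, c', rfl⟩ := X.presheaf.exists_germ_eq (x := x) c
        obtain ⟨V₂, hV₂, b', rfl⟩ := X.presheaf.exists_germ_eq (x := x) b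
        set V := V₁ ⊓ V₂ ⊓ W₀ with hVdef
        have hxV : x ∈ V := ⟨⟨hV₁, hV₂⟩, hxW₀⟩
        have hl1 : V ≤ V₁ := inf_le_left.trans inf_le_left
        have hl2 : V ≤ V₂ := inf_le_left.trans inf_le_right
        rw [← X.presheaf.germ_res_apply (homOfLE hl2) x hxV b', hP hxV,
          ← X.presheaf.germ_res_apply (homOfLE hl1) x hxV c', ← germM_res P inf_le_right x hxV t, ← germM_smul]
        congr 1
        set V' := U.ι ''ᵁ (U.ι ⁻¹ᵁ V)
        have hV'V : V' ≤ V := U.ι.image_preimage_le V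
        have hle : V' ≤ W' := U.ι.image_mono (U.ι.preimage_mono inf_le_right)
        have hηV : genericPoint X ∈ V := (hsp x).mem_open V.2 hxV
        have hηV' : genericPoint X ∈ V' := ⟨⟨_, hηU⟩, hηV, rfl⟩
        have hsm : ∀ (r : Γ(X, V)) (q : Γ(P, V)),
            (show Γ(X, V') from r • q) = X.presheaf.map (homOfLE hV'V).op r * (show Γ(X, V') from q) := by
          intro r q
          change (U.ι.appIso _).inv (U.ι.app V r) * (show Γ(X, V') from q) = _
          rw [Scheme.Opens.ι_appIso, Scheme.Opens.ι_app]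
          rfl
        refine Eq.trans ?_ (hsm _ _).symm
        refine germ_injective_of_isIntegral X (genericPoint X) hηV' ?_
        rw [map_mul, X.presheaf.germ_res_apply, X.presheaf.germ_res_apply, X.presheaf.germ_res_apply,
          X.presheaf.germ_res_apply]
        change _ = _ * X.presheaf.germ V' (genericPoint X) hηV' (X.presheaf.map (homOfLE hle).op t')
        rw [X.presheaf.germ_res_apply, ← spR_germ (hsp x) hV₂ b', ← spR_germ (hsp x) hV₁ c']
        exact hb
      obtain ⟨W₁, hxW₁, q, hq⟩ := exists_germM_eq P x (RefHull.stalkMapₗ (leg N) x v - germM P W₀ x hxW₀ t)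
      obtain ⟨V₁, hV₁, c', rfl⟩ := X.presheaf.exists_germ_eq (x := x) c
      have h2 : germM P (W₁ ⊓ V₁) x ⟨hxW₁, hV₁⟩
          (X.presheaf.map (homOfLE (inf_le_right : W₁ ⊓ V₁ ≤ V₁)).op c' • res P (inf_le_left : W₁ ⊓ V₁ ≤ W₁) q) =
          germM P (W₁ ⊓ V₁) x ⟨hxW₁, hV₁⟩ 0 := by
        rw [germM_smul, germM_res, hq, X.presheaf.germ_res_apply, smul_sub, h1, sub_self]
        exact (map_zero _).symm
      obtain ⟨W₂, hxW₂, i₁, i₂, hW₂⟩ := P.presheaf.germ_eq x _ _ _ _ h2
      rw [show P.presheaf.map i₂.op 0 = 0 from map_zero _, Scheme.Modules.map_smul] at hW₂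
      set V₂ := U.ι ''ᵁ (U.ι ⁻¹ᵁ W₂)
      have hV₂le : V₂ ≤ W₂ := U.ι.image_preimage_le W₂
      have hηV₂ : genericPoint X ∈ V₂ := ⟨⟨_, hηU⟩, (hsp x).mem_open W₂.2 hxW₂, rfl⟩
      have hcne : X.presheaf.map i₁.op (X.presheaf.map (homOfLE (inf_le_right : W₁ ⊓ V₁ ≤ V₁)).op c') ≠ 0 := fun h0 => hc (by
        have h4 := congrArg (X.presheaf.germ W₂ x hxW₂) h0
        rw [X.presheaf.germ_res_apply, X.presheaf.germ_res_apply, map_zero] at h4
        exact h4)
      have h5 : ((U.ι.appIso (U.ι ⁻¹ᵁ W₂)).inv (U.ι.app W₂ (X.presheaf.map i₁.op (X.presheaf.map (homOfLE (inf_le_right : W₁ ⊓ V₁ ≤ V₁)).op c')))) *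
          (show Γ(X, V₂) from P.presheaf.map i₁.op (res P (inf_le_left : W₁ ⊓ V₁ ≤ W₁) q)) = 0 := hW₂
      rw [Scheme.Opens.ι_appIso, Scheme.Opens.ι_app] at h5
      haveI : Nonempty V₂ := ⟨⟨_, hηV₂⟩⟩
      have h6 : (show Γ(X, V₂) from P.presheaf.map i₁.op (res P (inf_le_left : W₁ ⊓ V₁ ≤ W₁) q)) = 0 := by
        refine (mul_eq_zero.mp h5).resolve_left fun h0 => hcne ?_
        refine germ_injective_of_isIntegral X (genericPoint X) ((hsp x).mem_open W₂.2 hxW₂) ?_
        have h4 := congrArg (X.presheaf.germ V₂ (genericPoint X) hηV₂) h0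
        simp only [map_zero] at h4 ⊢
        refine Eq.trans ?_ h4
        exact (X.presheaf.germ_res_apply (homOfLE hV₂le) (genericPoint X) hηV₂ _).symm
      refine sub_eq_zero.mp (show RefHull.stalkMapₗ (leg N) x v - germM P W₀ x hxW₀ t = 0 from ?_)
      rw [← hq, ← germM_res P (inf_le_left : W₁ ⊓ V₁ ≤ W₁) x ⟨hxW₁, hV₁⟩]
      refine ((P.presheaf.germ_res_apply i₁ x hxW₂ _).symm.trans ?_)
      rw [show P.presheaf.map i₁.op (res P (inf_le_left : W₁ ⊓ V₁ ≤ W₁) q) = 0 from h6]
      exact map_zero _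
  · by_cases hs : σ s 1 (genericPoint X) = 0
    · refine ⟨n + 1, homOfLE (Nat.le_succ n), ?_⟩
      rw [RefPow.diagram_map]
      have hs0 : RefHull.stalkMapₗ s x (unitStalk x 1) = 0 :=
        toη_injective_of_isReflexive F hF.1 hF.2.1 x (by
          rw [map_zero, toη, sp_stalkMap, sp_unitStalk, map_one (spR (hsp x)), ← σ_one]
          exact hs)
      cases n with
      | zero =>
        obtain ⟨b, rfl⟩ := (unitStalk x).surjective v
        show RefHull.stalkMapₗ s x (unitStalk x b) = 0
        rw [show unitStalk x b = b • unitStalk x 1 by rw [← map_smul, smul_eq_mul, mul_one], map_smul, hs0,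
          smul_zero]
      | succ n =>
        show RefHull.stalkMapₗ (RefPow.mulBy s (n + 1)) x v = 0
        rw [mulBy_stalk, hs0, TensorProduct.tmul_zero, map_zero, map_zero]; rfl
    · refine ⟨n, 𝟙 n, ?_⟩
      change (RefPow.refPow F n).presheaf.stalk x at v
      rw [CategoryTheory.Functor.map_id]
      show RefHull.stalkMapₗ (𝟙 (RefPow.refPow F n)) x v = 0
      rw [RefFun.stalkMapₗ_id, LinearMap.id_apply]
      haveI := (refPow_spec hX hF s hs n).1.1.1
      have hne := (refPow_spec hX hF s hs n).2.1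
      obtain ⟨a, ha⟩ := (rankOne_refPow hX hF s hs n).exists_smul hne (toη (RefPow.refPow F n) x v)
      obtain ⟨_, ⟨V₀, hV₀, rfl⟩, hxV₀, -⟩ :=
        X.isBasis_affineOpens.exists_subset_of_mem_open (Set.mem_univ x) isOpen_univ
      haveI : (Coh.structureModule X).IsQuasicoherent := (isCoh_structureModule (X := X)).1
      obtain ⟨c, bσ, hc, hbσ⟩ := exists_smul_eq_toη (Coh.structureModule X) x (unitStalk (genericPoint X) a)
      obtain ⟨b, rfl⟩ := (unitStalk x).surjective bσ
      rw [toη, sp_unitStalk, ← map_smul, smul_eq_mul] at hbσ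
      have hb : toK x b = toK x c * a := (unitStalk _).injective hbσ
      have hcv : c • v = RefHull.stalkMapₗ (RefPow.sPow s n) x (unitStalk x b) := by
        refine toη_injective_of_isReflexive _ (refPow_spec hX hF s hs n).1.1 (refPow_spec hX hF s hs n).1.2.1 x ?_
        rw [toη_sPow, toη, sp_smul, sp_smul, show sp (RefPow.refPow F n) (hsp x) v = _ from ha,
          show sp (RefPow.refPow F n) (hsp x) (σ s n x) = _ from toη_σ s n x, smul_smul]
        exact congrArg (· • _) hb.symm
      have hv' : RefHull.stalkMapₗ (leg n) x v = 0 := hv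
      have h0 : RefHull.stalkMapₗ (adj.unit.app (Coh.structureModule X)) x (unitStalk x b) = 0 := by
        rw [← hσP n, stalkMapₗ_comp_apply, ← hcv, map_smul, hv', smul_zero]
      obtain ⟨W, hW, b', rfl⟩ := X.presheaf.exists_germ_eq (x := x) b
      rw [hP hW] at h0
      obtain ⟨W₂, hxW₂, i₁, i₂, hW₂⟩ := P.presheaf.germ_eq x hW hW _ 0 (h0.trans (map_zero _).symm)
      rw [show P.presheaf.map i₂.op 0 = 0 from map_zero _] at hW₂
      have hηU : genericPoint X ∈ U := by
        show genericPoint X ∈ (U : Set X)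
        rw [hU, mem_isoLocus_iff_dOrd hX hF s hs]
        intro y hy h1
        have hy' : y = genericPoint X := ((hsp y).antisymm hy).eq.symm
        rw [hy', Order.coheight_eq_zero.mpr (fun z _ => Scheme.le_iff_specializes.mpr (hsp z))] at h1
        exact absurd h1 (by norm_num)
      set V₂ := U.ι ''ᵁ (U.ι ⁻¹ᵁ W₂)
      have hle : V₂ ≤ W := (U.ι.image_preimage_le W₂).trans i₁.le
      have hηV₂ : genericPoint X ∈ V₂ := ⟨⟨_, hηU⟩, (hsp x).mem_open W₂.2 hxW₂, rfl⟩
      have h7 : X.presheaf.map (homOfLE hle).op b' = 0 := by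
        refine Eq.trans ?_ hW₂
        change _ = X.presheaf.map _ (X.presheaf.map _ b')
        rw [← ConcreteCategory.comp_apply, ← Functor.map_comp]
        rfl
      have h8 := congrArg (X.presheaf.germ V₂ (genericPoint X) hηV₂) h7
      rw [X.presheaf.germ_res_apply, map_zero] at h8
      have hb0 : X.presheaf.germ W x hW b' = 0 :=
        toK_injective x (by rw [toK, spR_germ, h8, map_zero])
      rw [hb0, map_zero, map_zero] at hcv
      refine toη_injective_of_isReflexive _ (refPow_spec hX hF s hs n).1.1 (refPow_spec hX hF s hs n).1.2.1 x ?_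
      rw [map_zero]
      have h9 := congrArg (toη (RefPow.refPow F n) x) hcv
      rw [toη, sp_smul, map_zero] at h9
      exact (isUnit_of_ne_zero (toK_ne_zero hc)).smul_eq_zero.mp h9

end Groth.Agent.Ref1

end
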